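import Cfsg.Agent.Lib.Sourour.Small.Opt

/-!
For a cyclic endomorphism of degree at least three: a product with a triangular-plus-quadratic endomorphism has any
cyclic shape of the right determinant.
-/

set_option autoImplicit false

namespace Cfsg.Agent.Lib.Sourour.Small

open Polynomial Module

variable {F : Type*} [Field F]
variable {V : Type*} [AddCommGroup V] [Module F V] [FiniteDimensional F V]

/-- The matrix of the lower block, with characteristic polynomial `X² + α X + γ` and `(1, 0)` entry `1`. -/
def quad (u α γ : F) : Matrix (Fin 2) (Fin 2) F := !![u, u * (-α - u) - γ; 1, -α - u]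

theorem aeval_quad (u α γ : F) :
    aeval (Matrix.toLin' (quad u α γ)) (X ^ 2 + C α * X + C γ) = 0 := by
  refine LinearMap.ext fun r => funext fun i => ?_
  simp only [map_add, map_mul, aeval_X_pow, aeval_X, aeval_C, LinearMap.add_apply, Module.End.mul_apply,
    Module.algebraMap_end_apply, pow_two, Matrix.toLin'_apply, Pi.add_apply, Pi.smul_apply, smul_eq_mul,
    LinearMap.zero_apply, Pi.zero_apply, Matrix.mulVec, dotProduct, Fin.sum_univ_two]
  fin_cases i <;> simp [quad] <;> ring

theorem det_quad (u α γ : F) : (quad u α γ).det = γ := by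
  rw [quad, Matrix.det_fin_two_of]
  ring

/-- The vectors `C^i v`. -/
def orb (C : Module.End F V) (v : V) (i : ℕ) : V := (C ^ i) v

theorem orb_succ (C : Module.End F V) (v : V) (i : ℕ) : C (orb C v i) = orb C v (i + 1) := by
  rw [orb, orb, pow_succ', Module.End.mul_apply]

/-- The first `k` columns of a product of `C` and an upper triangular map. -/
def Cols (C : Module.End F V) (v : V) {k : ℕ} (T : Matrix (Fin k) (Fin k) F) (H : Module.End F V) : Prop :=
  ∀ j : Fin k, H (orb C v j) = ∑ i, T i j • orb C v (i + 1)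

theorem exists_polys (C : Module.End F V) (v : V) {k : ℕ} {T : Matrix (Fin k) (Fin k) F}
    (hT : ∀ i j, j < i → T i j = 0) (hd : ∀ i, T i i ≠ 0) : ∀ j, j ≤ k → ∃ P : F[X],
      P.natDegree ≤ j ∧ P.coeff j = ∏ i : Fin k, (if (i : ℕ) < j then (T i i)⁻¹ else 1) ∧ (1 ≤ j → P.coeff 0 = 0) ∧
      ∀ H, Cols C v T H → aeval H P v = orb C v j := by
  intro j
  induction j using Nat.strong_induction_on with
  | _ j ih =>
    intro hj
    rcases Nat.eq_zero_or_pos j with rfl | hjpos
    · exact ⟨1, natDegree_one.le, by simp, fun h => absurd h (by omega), fun H _ => by simp [orb]⟩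
    obtain ⟨i, rfl⟩ : ∃ i, j = i + 1 := ⟨j - 1, by omega⟩
    let p : Fin k := ⟨i, by omega⟩
    choose P hP1 hP2 hP3 hP4 using fun l (h : l < i + 1) => ih l h (by omega)
    let Q : Fin k → F[X] := fun l => if h : (l : ℕ) < i then Polynomial.C (T l p) * P (l + 1) (by omega) else 0
    refine ⟨Polynomial.C (T p p)⁻¹ * (X * P i (by omega) - ∑ l, Q l), ?_, ?_, ?_, ?_⟩
    · refine (natDegree_C_mul_le _ _).trans ?_
      refine (natDegree_sub_le _ _).trans (max_le ?_ ?_)
      · refine natDegree_mul_le.trans ?_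
        have := hP1 i (by omega)
        rw [natDegree_X]
        omega
      · refine natDegree_sum_le_of_forall_le _ _ fun l _ => ?_
        simp only [Q]
        split_ifs with h
        · refine (natDegree_C_mul_le _ _).trans ((hP1 _ (by omega)).trans (by omega))
        · simp
    · rw [coeff_C_mul, coeff_sub, coeff_X_mul, hP2, finsetSum_coeff, Finset.sum_eq_zero, sub_zero]
      · rw [show (fun l : Fin k => if (l : ℕ) < i + 1 then (T l l)⁻¹ else 1) =
          fun l => (if l = p then (T l l)⁻¹ else 1) * if (l : ℕ) < i then (T l l)⁻¹ else 1 from ?_]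
        · rw [Finset.prod_mul_distrib, Finset.prod_ite_eq']
          simp
        · funext l
          by_cases h : l = p
          · subst h
            simp [p]
          · have : (l : ℕ) ≠ i := fun he => h (Fin.ext he)
            simp only [h, if_false, one_mul]
            by_cases h' : (l : ℕ) < i
            · rw [if_pos (by omega), if_pos h']
            · rw [if_neg (by omega), if_neg h']
      · intro l _
        simp only [Q]
        split_ifs with h
        · rw [coeff_C_mul, coeff_eq_zero_of_natDegree_lt ((hP1 _ (by omega)).trans_lt (by omega)), mul_zero]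
        · simp
    · intro _
      rw [coeff_C_mul, coeff_sub, mul_coeff_zero, coeff_X_zero, zero_mul, finsetSum_coeff, Finset.sum_eq_zero,
        sub_zero, mul_zero]
      intro l _
      simp only [Q]
      split_ifs with h
      · rw [coeff_C_mul, hP3 _ _ (by omega), mul_zero]
      · simp
    · intro H hH
      rw [map_mul, Module.End.mul_apply, aeval_C, Module.algebraMap_end_apply, map_sub, LinearMap.sub_apply,
        map_mul, Module.End.mul_apply, aeval_X, hP4 i (by omega) H hH, hH p, map_sum, LinearMap.sum_apply,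
        ← Finset.sum_sub_distrib, Finset.sum_eq_single p]
      · simp only [Q, dif_neg (show ¬((p : ℕ) < i) by simp [p]), map_zero, LinearMap.zero_apply, sub_zero]
        rw [smul_smul, inv_mul_cancel₀ (hd p), one_smul]
      · intro l _ hl
        by_cases h : (l : ℕ) < i
        · simp only [Q, dif_pos h, map_mul, Module.End.mul_apply, aeval_C, Module.algebraMap_end_apply,
            hP4 _ _ H hH, sub_self]
        · have h' : p < l := Fin.lt_def.2 (by
            have : (l : ℕ) ≠ i := fun he => hl (Fin.ext he)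
            show i < (l : ℕ)
            omega)
          simp [Q, h, hT l p h']
      · simp

theorem exists_in_span (C : Module.End F V) (v : V) {k : ℕ} {T : Matrix (Fin k) (Fin k) F}
    (hT : ∀ i j, j < i → T i j = 0) (hd : ∀ i, T i i ≠ 0) : ∀ j, j ≤ k → ∀ D : F[X], D.natDegree ≤ j →
      D.coeff 0 = 0 → ∃ q : Fin k → F, ∀ H, Cols C v T H → aeval H D v = ∑ i, q i • orb C v (i + 1) := by
  intro j
  induction j with
  | zero =>
    intro _ D hD h0
    refine ⟨0, fun H _ => ?_⟩
    rw [eq_C_of_natDegree_le_zero hD, h0]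
    simp
  | succ j ih =>
    intro hj D hD h0
    obtain ⟨P, hP1, hP2, hP3, hP4⟩ := exists_polys C v hT hd (j + 1) hj
    have hne : P.coeff (j + 1) ≠ 0 := by
      rw [hP2]
      refine Finset.prod_ne_zero_iff.2 fun i _ => ?_
      split_ifs
      · exact inv_ne_zero (hd i)
      · exact one_ne_zero
    set c := D.coeff (j + 1) / P.coeff (j + 1) with hc
    obtain ⟨q, hq⟩ := ih (by omega) (D - Polynomial.C c * P) (by
      refine natDegree_le_iff_coeff_eq_zero.2 fun N hN => ?_
      rcases Nat.eq_or_lt_of_le (show j + 1 ≤ N from hN) with rfl | hN'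
      · rw [coeff_sub, coeff_C_mul, hc, div_mul_cancel₀ _ hne, sub_self]
      · rw [coeff_sub, coeff_C_mul, coeff_eq_zero_of_natDegree_lt (hD.trans_lt hN'),
          coeff_eq_zero_of_natDegree_lt (hP1.trans_lt hN'), mul_zero, sub_zero])
      (by rw [coeff_sub, coeff_C_mul, h0, hP3 (by omega), mul_zero, sub_zero])
    refine ⟨q + Pi.single (⟨j, by omega⟩ : Fin k) c, fun H hH => ?_⟩
    have h := hq H hH
    rw [map_sub, LinearMap.sub_apply, map_mul, Module.End.mul_apply, aeval_C, Module.algebraMap_end_apply,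
      hP4 H hH, sub_eq_iff_eq_add] at h
    rw [h]
    simp [add_smul, Finset.sum_add_distrib, Pi.single_apply, ite_smul, Finset.sum_ite_eq']

/-- Triangular plus quadratic to cyclic. -/
theorem exists_big {Cm : Module.End F V} {f : F[X]} {v : V} (hC : Cyc Cm f v) {k : ℕ} (hk : 1 ≤ k)
    (hdim : finrank F V = k + 2) {T : Matrix (Fin k) (Fin k) F} (hT : ∀ i j, j < i → T i j = 0)
    (hd : ∀ i, T i i ≠ 0) (α γ : F) {g : F[X]} (hg : g.Monic) (hgd : g.natDegree = k + 2)
    (hg0 : g.coeff 0 = f.coeff 0 * (∏ i, T i i) * γ) :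
    ∃ (B : Module.End F V) (u : F) (K : (Fin 2 → F) →ₗ[F] (Fin k → F)),
      EEquiv B (tri (Matrix.toLin' T) K (Matrix.toLin' (quad u α γ))) ∧ Cyc (Cm * B) g v := by
  set u := f.coeff (k + 1) + 1 with hu
  set z := -α - u with hz
  set w := u * z - γ with hw
  set h := w - z * f.coeff (k + 1) with hh
  obtain ⟨P, hP1, hP2, hP3, hP4⟩ := exists_polys Cm v hT hd k le_rfl
  set ℓ := P.coeff k with hℓ
  have hℓ' : ℓ = (∏ i, T i i)⁻¹ := by
    rw [hP2, ← Finset.prod_inv_distrib]
    exact Finset.prod_congr rfl fun i _ => by rw [if_pos i.isLt]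
  have hprod : ∏ i, T i i ≠ 0 := Finset.prod_ne_zero_iff.2 fun i _ => hd i
  have hℓ0 : ℓ ≠ 0 := by rw [hℓ']; exact inv_ne_zero hprod
  set τ := (P.coeff (k - 1) - h * ℓ - ℓ * g.coeff (k + 1)) / ℓ with hτ
  set R : F[X] := X * P - Polynomial.C τ * P + Polynomial.C (f.coeff 0) with hR
  set D : F[X] := (X - Polynomial.C h) * R + Polynomial.C (z * f.coeff 0) - Polynomial.C ℓ * g with hD
  have hRd : R.natDegree ≤ k + 1 := by
    refine (natDegree_add_le _ _).trans (max_le ((natDegree_sub_le _ _).trans (max_le ?_ ?_)) ?_)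
    · refine natDegree_mul_le.trans ?_
      rw [natDegree_X]
      omega
    · exact (natDegree_C_mul_le _ _).trans (by omega)
    · simp
  have hR1 : R.coeff (k + 1) = ℓ := by
    rw [hR, coeff_add, coeff_sub, coeff_X_mul, coeff_C_mul, coeff_eq_zero_of_natDegree_lt (show P.natDegree < k + 1
      by omega), coeff_C, if_neg (by omega)]
    simp [hℓ]
  have hRk : R.coeff k = P.coeff (k - 1) - τ * ℓ := by
    rw [hR, coeff_add, coeff_sub, coeff_C_mul, coeff_C, if_neg (by omega), add_zero]
    have e1 := coeff_X_mul P (k - 1)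
    rw [Nat.sub_add_cancel hk] at e1
    rw [e1]
  have hR0 : R.coeff 0 = f.coeff 0 := by
    rw [hR, coeff_add, coeff_sub, mul_coeff_zero, coeff_X_zero, zero_mul, coeff_C_mul, hP3 hk, mul_zero,
      sub_zero, zero_add, coeff_C_zero]
  have hDd : D.natDegree ≤ k := by
    refine natDegree_le_iff_coeff_eq_zero.2 fun N hN => ?_
    obtain ⟨N, rfl⟩ : ∃ M, N = M + 1 := ⟨N - 1, by omega⟩
    rw [hD, coeff_sub, coeff_add, sub_mul, coeff_sub, coeff_X_mul, coeff_C_mul, coeff_C, if_neg (by omega),
      coeff_C_mul, add_zero]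
    rcases (show N = k ∨ N = k + 1 ∨ k + 1 < N by omega) with rfl | rfl | hlt
    · rw [hR1, hRk, hτ, div_mul_cancel₀ _ hℓ0]
      ring
    · rw [hR1, coeff_eq_zero_of_natDegree_lt (show R.natDegree < k + 1 + 1 by omega),
        show g.coeff (k + 1 + 1) = 1 by rw [show k + 1 + 1 = g.natDegree by omega]; exact hg.coeff_natDegree]
      ring
    · rw [coeff_eq_zero_of_natDegree_lt (show R.natDegree < N by omega),
        coeff_eq_zero_of_natDegree_lt (show R.natDegree < N + 1 by omega),
        coeff_eq_zero_of_natDegree_lt (show g.natDegree < N + 1 by omega)]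
      ring
  have hD0 : D.coeff 0 = 0 := by
    rw [hD, coeff_sub, coeff_add, mul_coeff_zero, coeff_sub, coeff_X_zero, coeff_C_zero, hR0, coeff_C_zero,
      coeff_C_mul, hg0, hℓ', hh, hw]
    field_simp
    ring
  obtain ⟨q, hq⟩ := exists_in_span Cm v hT hd k le_rfl D hDd hD0
  -- the coordinates
  let e : ℕ → V := orb Cm v
  let ψ : (Fin k → F) × (Fin 2 → F) →ₗ[F] V :=
    (Fintype.linearCombination F fun i : Fin k => e i).coprod
      (Fintype.linearCombination F fun i : Fin 2 => e (k + i))
  have hψ : ∀ x : (Fin k → F) × (Fin 2 → F),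
      ψ x = (∑ i, x.1 i • e i) + (x.2 0 • e k + x.2 1 • e (k + 1)) := fun x => by
    simp [ψ, Fintype.linearCombination_apply, Fin.sum_univ_two]
  have hrec : e (k + 2) = -∑ i ∈ Finset.range (k + 2), f.coeff i • e i := by
    have h1 := hC.annih
    rw [aeval_eq_sum_range, hC.deg, hdim, LinearMap.sum_apply, Finset.sum_range_succ] at h1
    simp only [LinearMap.smul_apply] at h1
    rw [show f.coeff (k + 2) = 1 by rw [← hdim, ← hC.deg]; exact hC.monic.coeff_natDegree, one_smul] at h1
    exact eq_neg_of_add_eq_zero_right h1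
  have hmem : ∀ i, i < k + 2 → e i ∈ LinearMap.range ψ := by
    intro i hi
    rcases (show i < k ∨ i = k ∨ i = k + 1 by omega) with h | rfl | rfl
    · exact ⟨(Pi.single ⟨i, h⟩ 1, 0), by rw [hψ]; simp [Pi.single_apply, ite_smul]⟩
    · exact ⟨(0, Pi.single 0 1), by rw [hψ]; simp⟩
    · exact ⟨(0, Pi.single 1 1), by rw [hψ]; simp⟩
  have htop : LinearMap.range ψ = ⊤ := by
    refine hC.gen _ (fun x hx => ?_) ?_
    · obtain ⟨p, rfl⟩ := hx
      rw [hψ, map_add, map_add, map_sum]
      refine Submodule.add_mem _ (Submodule.sum_mem _ fun i _ => ?_) (Submodule.add_mem _ ?_ ?_)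
      · rw [map_smul, orb_succ]
        exact Submodule.smul_mem _ _ (hmem _ (by omega))
      · rw [map_smul, orb_succ]
        exact Submodule.smul_mem _ _ (hmem _ (by omega))
      · rw [map_smul, orb_succ, show k + 1 + 1 = k + 2 by omega]
        refine Submodule.smul_mem _ _ ?_
        show e (k + 2) ∈ _
        rw [hrec]
        exact Submodule.neg_mem _ (Submodule.sum_mem _ fun i hi =>
          Submodule.smul_mem _ _ (hmem i (Finset.mem_range.1 hi)))
    · simpa [e, orb] using hmem 0 (by omega)
  have hsurj : Function.Surjective ψ := LinearMap.range_eq_top.1 htop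
  let Ψ := LinearEquiv.ofBijective ψ
    ⟨(LinearMap.injective_iff_surjective_of_finrank_eq_finrank
      (by rw [Module.finrank_prod, Module.finrank_fin_fun, Module.finrank_fin_fun, hdim])).2 hsurj, hsurj⟩
  let a : Fin k → F := fun i => f.coeff (i + 1) + if (i : ℕ) + 1 = k then τ else 0
  let b : Fin k → F := fun i => q i + z * f.coeff (i + 1)
  let K : (Fin 2 → F) →ₗ[F] (Fin k → F) :=
    (LinearMap.proj (R := F) (φ := fun _ : Fin 2 => F) 0).smulRight a +
      (LinearMap.proj (R := F) (φ := fun _ : Fin 2 => F) 1).smulRight b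
  let Tr := tri (Matrix.toLin' T) K (Matrix.toLin' (quad u α γ))
  let B : Module.End F V := (Ψ : _ →ₗ[F] V) ∘ₗ Tr ∘ₗ (Ψ.symm : V →ₗ[F] _)
  have hBψ : ∀ x, B (ψ x) = ψ (Tr x) := fun x => by
    show Ψ (Tr (Ψ.symm (Ψ x))) = Ψ (Tr x)
    rw [Ψ.symm_apply_apply]
  refine ⟨B, u, K, ⟨Ψ.symm, fun x => by simp [B, Tr]⟩, ?_⟩
  have hcols : Cols Cm v T (Cm * B) := by
    intro j
    have : orb Cm v j = ψ (Pi.single j 1, 0) := by
      rw [hψ]; simp [Pi.single_apply, ite_smul, e]
    rw [Module.End.mul_apply, this, hBψ, hψ]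
    simp [Tr, tri_apply, map_sum, orb_succ, e, Matrix.col_apply]
  have hsplit : ∑ i ∈ Finset.range (k + 2), f.coeff i • e i =
      f.coeff 0 • e 0 + (∑ i : Fin k, f.coeff (i + 1) • e (i + 1)) + f.coeff (k + 1) • e (k + 1) := by
    rw [Finset.sum_range_succ, Finset.sum_range_succ', Finset.sum_range]
    abel
  have hCsum : ∀ c : Fin k → F, Cm (∑ i, c i • e i) = ∑ i, c i • e (i + 1) := fun c => by
    simp [map_sum, e, orb_succ]
  have hHk : (Cm * B) (e k) = τ • e k + e (k + 1) - f.coeff 0 • e 0 := by
    have : e k = ψ (0, Pi.single 0 1) := by rw [hψ]; simp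
    rw [Module.End.mul_apply, this, hBψ, hψ, ← this, map_add, hCsum]
    simp only [Tr, tri_apply, K, LinearMap.add_apply, LinearMap.smulRight_apply, LinearMap.proj_apply,
      Pi.single_eq_same, one_smul, Pi.single_eq_of_ne (show (1 : Fin 2) ≠ 0 by decide), zero_smul, add_zero,
      map_zero, Matrix.toLin'_apply, Matrix.mulVec_zero, zero_add]
    rw [Matrix.mulVec_single_one]
    have h0 : (quad u α γ).col 0 0 = u := by simp [quad]
    have h1 : (quad u α γ).col 0 1 = 1 := by simp [quad]
    rw [h0, h1, map_add, map_smul, map_smul, one_smul]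
    show _ + (u • Cm (e k) + Cm (e (k + 1))) = _
    rw [show Cm (e k) = e (k + 1) from orb_succ _ _ _, show Cm (e (k + 1)) = e (k + 2) from orb_succ _ _ _, hrec,
      hsplit]
    have hlast : ∑ i : Fin k, (if (i : ℕ) + 1 = k then τ else 0) • e ((i : ℕ) + 1) = τ • e k := by
      rw [Finset.sum_eq_single (⟨k - 1, by omega⟩ : Fin k)]
      · rw [if_pos (show k - 1 + 1 = k by omega)]
        congr 2
        show k - 1 + 1 = k
        omega
      · intro i _ hi
        rw [if_neg (fun he => hi (Fin.ext (show (i : ℕ) = k - 1 by omega))), zero_smul]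
      · simp
    simp only [a, add_smul, Finset.sum_add_distrib, hlast, hu, one_smul]
    abel
  have hHk1 : (Cm * B) (e (k + 1)) = (∑ i, q i • e (i + 1)) + h • e (k + 1) - (z * f.coeff 0) • e 0 := by
    have : e (k + 1) = ψ (0, Pi.single 1 1) := by rw [hψ]; simp
    rw [Module.End.mul_apply, this, hBψ, hψ, ← this, map_add, hCsum]
    simp only [Tr, tri_apply, K, LinearMap.add_apply, LinearMap.smulRight_apply, LinearMap.proj_apply,
      Pi.single_eq_same, one_smul, Pi.single_eq_of_ne (show (0 : Fin 2) ≠ 1 by decide), zero_smul, zero_add,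
      map_zero, Matrix.toLin'_apply, Matrix.mulVec_zero]
    rw [Matrix.mulVec_single_one]
    have h0 : (quad u α γ).col 1 0 = w := by simp [quad, hw, hz]
    have h1 : (quad u α γ).col 1 1 = z := by simp [quad, hz]
    rw [h0, h1, map_add, map_smul, map_smul]
    show _ + (w • Cm (e k) + z • Cm (e (k + 1))) = _
    rw [show Cm (e k) = e (k + 1) from orb_succ _ _ _, show Cm (e (k + 1)) = e (k + 2) from orb_succ _ _ _, hrec,
      hsplit]
    simp only [b, add_smul, Finset.sum_add_distrib, mul_smul, ← Finset.smul_sum, hh, sub_smul, smul_neg, smul_add]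
    abel
  refine ⟨hg, by rw [hgd, hdim], ?_, fun S hS hv => ?_⟩
  · have hPe : aeval (Cm * B) P v = e k := hP4 _ hcols
    have hRe : aeval (Cm * B) R v = e (k + 1) := by
      rw [hR]
      simp only [map_add, map_sub, map_mul, aeval_X, aeval_C, LinearMap.add_apply, LinearMap.sub_apply,
        Module.End.mul_apply, Module.algebraMap_end_apply, hPe]
      rw [show Cm (B (e k)) = (Cm * B) (e k) from rfl, hHk]
      rw [show v = e 0 by simp [e, orb]]
      abel
    have hDe := hq _ hcols
    rw [hD] at hDe
    simp only [map_add, map_sub, map_mul, aeval_X, aeval_C, LinearMap.add_apply, LinearMap.sub_apply,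
      Module.End.mul_apply, Module.algebraMap_end_apply, hRe] at hDe
    rw [show Cm (B (e (k + 1))) = (Cm * B) (e (k + 1)) from rfl, hHk1, show v = e 0 by simp [e, orb]] at hDe
    rw [show v = e 0 by simp [e, orb]]
    have h2 : ℓ • aeval (Cm * B) g (e 0) = 0 := by
      have h3 : (∑ i, q i • e (i + 1)) + h • e (k + 1) - (z * f.coeff 0) • e 0 - h • e (k + 1) +
          (z * f.coeff 0) • e 0 = ∑ i, q i • orb Cm v (i + 1) := by
        show _ = ∑ i, q i • e (i + 1)
        abel
      simp only [← mul_smul] at hDe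
      rw [h3] at hDe
      exact sub_eq_self.1 hDe
    exact (smul_eq_zero.1 h2).resolve_left hℓ0
  · have hall : ∀ i, i ≤ k → e i ∈ S := by
      intro i
      induction i using Nat.strong_induction_on with
      | _ i ih =>
        intro hi
        rcases Nat.eq_zero_or_pos i with rfl | hpos
        · simpa [e, orb] using hv
        obtain ⟨j, rfl⟩ : ∃ j, i = j + 1 := ⟨i - 1, by omega⟩
        let p : Fin k := ⟨j, by omega⟩
        have h1 := hS _ (ih j (by omega) (by omega))
        rw [show e j = orb Cm v p from rfl, hcols p, ← Finset.add_sum_erase _ _ (Finset.mem_univ p)] at h1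
        have h2 : ∑ l ∈ Finset.univ.erase p, T l p • orb Cm v (l + 1) ∈ S := by
          refine S.sum_mem fun l hl => ?_
          rcases lt_or_ge p l with h | h
          · rw [hT l p h, zero_smul]
            exact S.zero_mem
          · have hne : l ≠ p := Finset.ne_of_mem_erase hl
            have h' : (l : ℕ) < j := by
              have h3 : (l : ℕ) ≤ j := h
              have : (l : ℕ) ≠ j := fun he => hne (Fin.ext he)
              omega
            exact S.smul_mem _ (ih _ (by omega) (by omega))
        exact (S.smul_mem_iff (hd p)).1 ((S.add_mem_iff_left h2).1 h1)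
    have hlast : e (k + 1) ∈ S := by
      have h1 := hS _ (hall k le_rfl)
      rw [hHk] at h1
      have h2 := S.add_mem h1 (S.smul_mem (f.coeff 0) (hall 0 (Nat.zero_le _)))
      rw [sub_add_cancel] at h2
      exact (S.add_mem_iff_right (S.smul_mem _ (hall k le_rfl))).1 h2
    refine eq_top_iff.2 fun x _ => ?_
    obtain ⟨p, rfl⟩ := hsurj x
    rw [hψ]
    exact S.add_mem (S.sum_mem fun i _ => S.smul_mem _ (hall i i.isLt.le))
      (S.add_mem (S.smul_mem _ (hall k le_rfl)) (S.smul_mem _ hlast))

end Cfsg.Agent.Lib.Sourour.Small
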