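import Cfsg.Agent.Lib.Sourour.Small.Models

/-!
Certificates by explicit matrices, products of matrix endomorphisms, and coprimality of the model polynomials.
-/

set_option autoImplicit false

namespace Cfsg.Agent.Lib.Sourour.Small

open Polynomial Module

variable {F : Type*} [Field F] {a b : ℕ}
variable {V W : Type*} [AddCommGroup V] [Module F V] [FiniteDimensional F V] [AddCommGroup W] [Module F W]
  [FiniteDimensional F W]

theorem eequiv_of_matrix {M N Z Zi : Matrix (Fin a) (Fin a) F} (hZ : Z * Zi = 1) (h : M * Z = Z * N) :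
    EEquiv (Matrix.toLin' M) (Matrix.toLin' N) := by
  have hZ' : Zi * Z = 1 := mul_eq_one_comm.1 hZ
  refine EEquiv.symm ⟨Matrix.toLin'OfInv hZ' hZ, fun x => ?_⟩
  show Matrix.toLin' Z (Matrix.toLin' N x) = Matrix.toLin' M (Matrix.toLin' Z x)
  rw [← Matrix.toLin'_mul_apply, ← Matrix.toLin'_mul_apply, h]

theorem mul_toLin' (M N : Matrix (Fin a) (Fin a) F) :
    Matrix.toLin' M * Matrix.toLin' N = Matrix.toLin' (M * N) := (Matrix.toLin'_mul M N).symm

theorem self_of_cert {A B Z Zi : Matrix (Fin a) (Fin a) F} (hZ : Z * Zi = 1) (h : A * B * Z = Z * B) :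
    Self (Matrix.toLin' A) B.det :=
  ⟨Matrix.toLin' B, LinearMap.det_toLin' B, by rw [mul_toLin']; exact eequiv_of_matrix hZ h⟩

theorem opt_of_cert {A B Z Zi : Matrix (Fin a) (Fin a) F} (hZ : Z * Zi = 1) (h : A * B * Z = Z * B)
    (hflex : Flex (Matrix.toLin' B)) : Opt (Matrix.toLin' A) B.det :=
  ⟨Matrix.toLin' B, LinearMap.det_toLin' B, by rw [mul_toLin']; exact eequiv_of_matrix hZ h, hflex⟩

/-- Block diagonal matrix on `Fin (a + b)`. -/
def bdiag (A : Matrix (Fin a) (Fin a) F) (B : Matrix (Fin b) (Fin b) F) : Matrix (Fin (a + b)) (Fin (a + b)) F :=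
  (Matrix.fromBlocks A 0 0 B).submatrix finSumFinEquiv.symm finSumFinEquiv.symm

theorem eequiv_bdiag (A : Matrix (Fin a) (Fin a) F) (B : Matrix (Fin b) (Fin b) F) :
    EEquiv ((Matrix.toLin' A).prodMap (Matrix.toLin' B)) (Matrix.toLin' (bdiag A B)) := by
  refine EEquiv.symm ⟨(LinearEquiv.funCongrLeft F F finSumFinEquiv).trans
    (LinearEquiv.sumArrowLequivProdArrow (Fin a) (Fin b) F F), fun x => ?_⟩
  have hx : ∀ i, (bdiag A B).mulVec x i =
      (Matrix.fromBlocks A 0 0 B).mulVec (x ∘ finSumFinEquiv) (finSumFinEquiv.symm i) := by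
    intro i
    rw [bdiag, Matrix.submatrix_mulVec_equiv, Equiv.symm_symm]
    rfl
  refine Prod.ext (funext fun i => ?_) (funext fun i => ?_)
  · show (bdiag A B).mulVec x (finSumFinEquiv (Sum.inl i)) = A.mulVec (fun j => x (finSumFinEquiv (Sum.inl j))) i
    rw [hx, Equiv.symm_apply_apply, Matrix.fromBlocks_mulVec]
    simp [Function.comp_def]
  · show (bdiag A B).mulVec x (finSumFinEquiv (Sum.inr i)) = B.mulVec (fun j => x (finSumFinEquiv (Sum.inr j))) i
    rw [hx, Equiv.symm_apply_apply, Matrix.fromBlocks_mulVec]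
    simp [Function.comp_def]

theorem sc_eq (c : F) : sc c = Matrix.toLin' (Matrix.of fun _ _ : Fin 1 => c) := by
  refine LinearMap.ext fun x => funext fun i => ?_
  obtain rfl : i = 0 := Subsingleton.elim i 0
  simp [sc, Matrix.toLin'_apply, Matrix.mulVec, dotProduct]

theorem coprime_lin_quad {e α γ : F} (h : e ^ 2 + α * e + γ ≠ 0) : IsCoprime (X - C e) (qpoly α γ) := by
  refine ⟨-(X + C (e + α)) * C (e ^ 2 + α * e + γ)⁻¹, C (e ^ 2 + α * e + γ)⁻¹, ?_⟩
  have h1 : C (e ^ 2 + α * e + γ) * C (e ^ 2 + α * e + γ)⁻¹ = (1 : F[X]) := by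
    rw [← C_mul, mul_inv_cancel₀ h, C_1]
  calc -(X + C (e + α)) * C (e ^ 2 + α * e + γ)⁻¹ * (X - C e) + C (e ^ 2 + α * e + γ)⁻¹ * qpoly α γ
      = C (e ^ 2 + α * e + γ) * C (e ^ 2 + α * e + γ)⁻¹ := by
        simp only [qpoly, map_add, map_mul, map_pow]
        ring
    _ = 1 := h1

theorem coprime_quad_quad {α α' γ γ' : F} (ha : α ≠ α')
    (h : ((γ' - γ) / (α - α')) ^ 2 + α' * ((γ' - γ) / (α - α')) + γ' ≠ 0) :
    IsCoprime (qpoly α γ) (qpoly α' γ') := by
  have h1 := coprime_lin_quad h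
  have h2 : qpoly α γ = C (α - α') * (X - C ((γ' - γ) / (α - α'))) + qpoly α' γ' * 1 := by
    have h3 : C (α - α') * C ((γ' - γ) / (α - α')) = C γ' - C γ := by
      rw [← C_mul, mul_div_cancel₀ _ (sub_ne_zero.2 ha), map_sub]
    rw [mul_sub, h3]
    simp only [qpoly, map_sub]
    ring
  rw [h2]
  refine IsCoprime.add_mul_left_left ?_ 1
  exact ((isCoprime_mul_unit_left_left (isUnit_C.2 (isUnit_iff_ne_zero.2 (sub_ne_zero.2 ha))) _ _)).2 h1

theorem eequiv_sc_of_finrank_one {n : ℕ} (hn : n = 1) {A : Module.End F (Fin n → F)} {f : F[X]} {v : Fin n → F}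
    (hA : Cyc A f v) : EEquiv A (sc (LinearMap.det A)) := by
  subst hn
  have hf : f = X - C (LinearMap.det A) := by
    rw [hA.monic.eq_X_add_C (by rw [hA.deg, Module.finrank_fin_fun]), hA.coeff_zero, Module.finrank_fin_fun]
    simp [sub_eq_add_neg]
  exact (hf ▸ hA).eequiv (cyc_sc _)

theorem eequiv_qd_of_finrank_two {n : ℕ} (hn : n = 2) {A : Module.End F (Fin n → F)} {f : F[X]} {v : Fin n → F}
    (hA : Cyc A f v) : ∃ α, EEquiv A (qd α (LinearMap.det A)) := by
  subst hn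
  refine ⟨f.coeff 1, ?_⟩
  have hd : f.natDegree = 2 := by rw [hA.deg, Module.finrank_fin_fun]
  have hf : f = qpoly (f.coeff 1) (LinearMap.det A) := by
    have h0 := hA.coeff_zero
    rw [Module.finrank_fin_fun, neg_one_sq, one_mul] at h0
    have h2 : f.coeff 2 = 1 := by rw [← hd]; exact hA.monic.coeff_natDegree
    conv_lhs => rw [f.as_sum_range_C_mul_X_pow, hd]
    simp only [Finset.sum_range_succ, Finset.sum_range_zero, h0, h2, qpoly, map_one]
    ring
  exact (hf ▸ hA).eequiv (cyc_qd _ _)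

/-- The product model `scalar × Jordan × quadratic` on the matrix side. -/
theorem toLin_blk_jmat (x e : F) (r : ℕ) : EEquiv (Matrix.toLin' (blk x 0 0 (jmat e r))) ((sc x).prodMap (jd e r)) :=
  toLin_blk x (jmat e r)

end Cfsg.Agent.Lib.Sourour.Small
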