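import Mathlib

/-!
Similarity of endomorphisms, cyclic endomorphisms, and splitting a block triangular endomorphism.
-/

set_option autoImplicit false

namespace Cfsg.Agent.Lib.Sourour.Small

open Polynomial Module

variable {F : Type*} [Field F]
variable {V W V' W' U : Type*} [AddCommGroup V] [Module F V] [AddCommGroup W] [Module F W] [AddCommGroup V']
  [Module F V'] [AddCommGroup W'] [Module F W'] [AddCommGroup U] [Module F U]

/-- Similarity of endomorphisms of possibly different spaces. -/
def EEquiv (T : Module.End F V) (S : Module.End F W) : Prop := ∃ e : V ≃ₗ[F] W, ∀ x, e (T x) = S (e x)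

theorem EEquiv.refl (T : Module.End F V) : EEquiv T T := ⟨LinearEquiv.refl F V, fun _ => rfl⟩

theorem EEquiv.symm {T : Module.End F V} {S : Module.End F W} (h : EEquiv T S) : EEquiv S T := by
  obtain ⟨e, he⟩ := h
  exact ⟨e.symm, fun x => e.injective (by rw [e.apply_symm_apply, he, e.apply_symm_apply])⟩

theorem EEquiv.trans {T : Module.End F V} {S : Module.End F W} {R : Module.End F U} (h : EEquiv T S)
    (h' : EEquiv S R) : EEquiv T R := by
  obtain ⟨e, he⟩ := h
  obtain ⟨e', he'⟩ := h'
  exact ⟨e.trans e', fun x => by simp [he, he']⟩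

theorem EEquiv.prodMap {T : Module.End F V} {S : Module.End F W} {T' : Module.End F V'} {S' : Module.End F W'}
    (h : EEquiv T S) (h' : EEquiv T' S') : EEquiv (T.prodMap T') (S.prodMap S') := by
  obtain ⟨e, he⟩ := h
  obtain ⟨e', he'⟩ := h'
  exact ⟨e.prodCongr e', fun x => Prod.ext (he x.1) (he' x.2)⟩

theorem EEquiv.prod_comm (T : Module.End F V) (S : Module.End F W) : EEquiv (T.prodMap S) (S.prodMap T) :=
  ⟨LinearEquiv.prodComm F V W, fun _ => rfl⟩

theorem EEquiv.prod_assoc (T : Module.End F V) (S : Module.End F W) (R : Module.End F U) :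
    EEquiv ((T.prodMap S).prodMap R) (T.prodMap (S.prodMap R)) :=
  ⟨LinearEquiv.prodAssoc F V W U, fun _ => rfl⟩

theorem EEquiv.det {T : Module.End F V} {S : Module.End F W} (h : EEquiv T S) :
    LinearMap.det T = LinearMap.det S := by
  obtain ⟨e, he⟩ := h
  have hS : S = (e : V →ₗ[F] W) ∘ₗ T ∘ₗ (e.symm : W →ₗ[F] V) :=
    LinearMap.ext fun x => by simp [he]
  rw [hS]
  exact (LinearMap.det_conj T e).symm

theorem map_aeval {T : Module.End F V} {S : Module.End F W} (L : V →ₗ[F] W) (h : ∀ x, L (T x) = S (L x))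
    (p : F[X]) (x : V) : L (aeval T p x) = aeval S p (L x) := by
  induction p using Polynomial.induction_on with
  | C a => simp [Module.algebraMap_end_apply]
  | add p q hp hq => simp [hp, hq]
  | monomial k a ih =>
    rw [show C a * X ^ (k + 1) = X * (C a * X ^ k) by ring]
    simp only [map_mul, Module.End.mul_apply, aeval_X] at ih ⊢
    rw [h, ih]

theorem mem_aeval {T : Module.End F V} {S : Submodule F V} (hS : ∀ x ∈ S, T x ∈ S) (p : F[X]) {v : V}
    (hv : v ∈ S) : aeval T p v ∈ S := by
  induction p using Polynomial.induction_on with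
  | C a => simpa [Module.algebraMap_end_apply] using S.smul_mem a hv
  | add p q hp hq => simpa using S.add_mem hp hq
  | monomial k a ih =>
    rw [show C a * X ^ (k + 1) = X * (C a * X ^ k) by ring, map_mul, Module.End.mul_apply, aeval_X]
    exact hS _ ih

theorem aeval_comm_apply (T : Module.End F V) (p q : F[X]) (x : V) :
    aeval T p (aeval T q x) = aeval T q (aeval T p x) := by
  rw [← Module.End.mul_apply, ← map_mul, mul_comm, map_mul, Module.End.mul_apply]

/-- `v` is a cyclic vector of `T` with annihilator `f` of full degree. -/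
structure Cyc (T : Module.End F V) (f : F[X]) (v : V) : Prop where
  monic : f.Monic
  deg : f.natDegree = finrank F V
  annih : aeval T f v = 0
  gen : ∀ S : Submodule F V, (∀ x ∈ S, T x ∈ S) → v ∈ S → S = ⊤

/-- Evaluation at a vector. -/
noncomputable def evalAt (T : Module.End F V) (v : V) : F[X] →ₗ[F] V :=
  (LinearMap.applyₗ v).comp (aeval T).toLinearMap

theorem evalAt_apply (T : Module.End F V) (v : V) (p : F[X]) : evalAt T v p = aeval T p v := rfl

theorem Cyc.aeval_eq_zero {T : Module.End F V} {f : F[X]} {v : V} (h : Cyc T f v) : aeval T f = 0 := by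
  have hk := h.gen (LinearMap.ker (aeval T f)) (fun x hx => by
    rw [LinearMap.mem_ker] at hx ⊢
    rw [show T x = aeval T (X : F[X]) x by rw [aeval_X], aeval_comm_apply, hx, map_zero])
    (LinearMap.mem_ker.2 h.annih)
  exact LinearMap.ker_eq_top.1 hk

theorem Cyc.eval_mod {T : Module.End F V} {f : F[X]} {v : V} (h : Cyc T f v) (p : F[X]) :
    aeval T (p %ₘ f) v = aeval T p v := by
  conv_rhs => rw [← modByMonic_add_div p f]
  rw [map_add, LinearMap.add_apply, map_mul, Module.End.mul_apply, h.aeval_eq_zero, LinearMap.zero_apply, add_zero]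

theorem Cyc.bijective [FiniteDimensional F V] {T : Module.End F V} {f : F[X]} {v : V} (h : Cyc T f v) :
    Function.Bijective ((evalAt T v).comp (degreeLT F f.natDegree).subtype) := by
  have hsurj : Function.Surjective ((evalAt T v).comp (degreeLT F f.natDegree).subtype) := by
    intro x
    have htop := h.gen (LinearMap.range (evalAt T v)) (by
      rintro _ ⟨p, rfl⟩
      exact ⟨X * p, by simp [evalAt_apply]⟩) ⟨1, by simp [evalAt_apply]⟩
    obtain ⟨p, rfl⟩ := LinearMap.range_eq_top.1 htop x
    refine ⟨⟨p %ₘ f, ?_⟩, h.eval_mod p⟩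
    rw [mem_degreeLT, ← degree_eq_natDegree h.monic.ne_zero]
    exact degree_modByMonic_lt p h.monic
  have hfd : FiniteDimensional F (degreeLT F f.natDegree) :=
    Module.Finite.equiv (degreeLTEquiv F f.natDegree).symm
  refine ⟨(LinearMap.injective_iff_surjective_of_finrank_eq_finrank ?_).2 hsurj, hsurj⟩
  rw [(degreeLTEquiv F f.natDegree).finrank_eq, Module.finrank_fin_fun, h.deg]

theorem Cyc.eequiv [FiniteDimensional F V] [FiniteDimensional F W] {T : Module.End F V} {S : Module.End F W}
    {f : F[X]} {v : V} {w : W} (hT : Cyc T f v) (hS : Cyc S f w) : EEquiv T S := by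
  let eT := LinearEquiv.ofBijective _ hT.bijective
  let eS := LinearEquiv.ofBijective _ hS.bijective
  refine ⟨eT.symm.trans eS, fun x => ?_⟩
  obtain ⟨p, rfl⟩ := eT.surjective x
  let q : degreeLT F f.natDegree := ⟨(X * (p : F[X])) %ₘ f, by
    rw [mem_degreeLT, ← degree_eq_natDegree hT.monic.ne_zero]
    exact degree_modByMonic_lt _ hT.monic⟩
  have h1 : T (eT p) = eT q := by
    show T (aeval T (p : F[X]) v) = aeval T ((X * (p : F[X])) %ₘ f) v
    rw [hT.eval_mod, map_mul, Module.End.mul_apply, aeval_X]
  rw [LinearEquiv.trans_apply, LinearEquiv.trans_apply, h1, eT.symm_apply_apply, eT.symm_apply_apply]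
  show aeval S ((X * (p : F[X])) %ₘ f) w = S (aeval S (p : F[X]) w)
  rw [hS.eval_mod, map_mul, Module.End.mul_apply, aeval_X]

theorem Cyc.map {T : Module.End F V} {S : Module.End F W} {f : F[X]} {v : V} (h : Cyc T f v) (e : V ≃ₗ[F] W)
    (he : ∀ x, e (T x) = S (e x)) : Cyc S f (e v) where
  monic := h.monic
  deg := by rw [h.deg, e.finrank_eq]
  annih := by
    have h1 := map_aeval (e : V →ₗ[F] W) he f v
    rw [h.annih, map_zero] at h1
    exact h1.symm
  gen := by
    intro P hP hv
    have h1 := h.gen (P.comap (e : V →ₗ[F] W)) (fun x hx => by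
      have := hP _ hx
      simpa [he] using this) hv
    exact eq_top_iff.2 fun y _ => by
      have : e.symm y ∈ P.comap (e : V →ₗ[F] W) := h1 ▸ Submodule.mem_top
      simpa using this

theorem cyc_one (T : Module.End F V) (c : F) (hV : finrank F V = 1) (hT : ∀ x, T x = c • x) {v : V} (hv : v ≠ 0) :
    Cyc T (X - C c) v where
  monic := monic_X_sub_C c
  deg := by rw [natDegree_X_sub_C, hV]
  annih := by simp [hT]
  gen := by
    intro S _ hvS
    exact eq_top_iff.2 fun x _ => by
      obtain ⟨a, ha⟩ := exists_smul_eq_of_finrank_eq_one hV hv x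
      exact ha ▸ S.smul_mem a hvS

/-- The triangular endomorphism with diagonal `T₁, T₂` and coupling `K`. -/
def tri (T₁ : Module.End F V) (K : W →ₗ[F] V) (T₂ : Module.End F W) : Module.End F (V × W) :=
  (T₁.comp (LinearMap.fst F V W) + K.comp (LinearMap.snd F V W)).prod (T₂.comp (LinearMap.snd F V W))

theorem tri_apply (T₁ : Module.End F V) (K : W →ₗ[F] V) (T₂ : Module.End F W) (x : V × W) :
    tri T₁ K T₂ x = (T₁ x.1 + K x.2, T₂ x.2) := rfl

/-- If some polynomial kills the lower block and is invertible on the upper one, the coupling can be removed. -/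
theorem tri_split [FiniteDimensional F V] (T₁ : Module.End F V) (K : W →ₗ[F] V) (T₂ : Module.End F W) (f : F[X])
    (h1 : ∀ a, aeval T₁ f a = 0 → a = 0) (h2 : aeval T₂ f = 0) : EEquiv (tri T₁ K T₂) (T₁.prodMap T₂) := by
  set B := tri T₁ K T₂ with hB
  have hinl : ∀ a, aeval B f (a, 0) = (aeval T₁ f a, 0) := fun a =>
    (map_aeval (LinearMap.inl F V W) (S := B) (fun x => by simp [hB, tri_apply]) f a).symm
  have hsnd : ∀ x, (aeval B f x).2 = 0 := fun x => by
    have := map_aeval (LinearMap.snd F V W) (T := B) (S := T₂) (fun _ => rfl) f x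
    simpa [h2] using this
  let G : W →ₗ[F] V := (LinearMap.fst F V W).comp ((aeval B f).comp (LinearMap.inr F V W))
  have hinr : ∀ w, aeval B f (0, w) = (G w, 0) := fun w => Prod.ext rfl (hsnd _)
  have hinj : Function.Injective (aeval T₁ f) := fun a b hab => sub_eq_zero.1 (h1 _ (by rw [map_sub, hab, sub_self]))
  let E : V ≃ₗ[F] V := LinearEquiv.ofBijective (aeval T₁ f) ⟨hinj, LinearMap.injective_iff_surjective.1 hinj⟩
  have hcomm : ∀ w, aeval T₁ f (K w) + G (T₂ w) = T₁ (G w) := by
    intro w
    have h := aeval_comm_apply B f X (0, w)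
    rw [aeval_X, hinr, hB, tri_apply, ← hB] at h
    simp only [map_zero, zero_add] at h
    rw [show ((K w, T₂ w) : V × W) = (K w, 0) + (0, T₂ w) by simp, map_add, hinl, hinr, Prod.mk_add_mk] at h
    rw [hB, tri_apply] at h
    simp only [map_zero, add_zero] at h
    exact (Prod.ext_iff.1 h).1
  let φ : W →ₗ[F] V := -((E.symm : V →ₗ[F] V).comp G)
  have hφ : ∀ w, T₁ (φ w) + K w = φ (T₂ w) := by
    intro w
    refine hinj ?_
    have hc : ∀ y, aeval T₁ f (T₁ y) = T₁ (aeval T₁ f y) := fun y => by
      have := aeval_comm_apply T₁ f X y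
      simpa [aeval_X] using this
    have hE : ∀ y, aeval T₁ f (E.symm y) = y := fun y => E.apply_symm_apply y
    simp only [φ, LinearMap.neg_apply, LinearMap.comp_apply, LinearEquiv.coe_coe, map_add, map_neg, hc, hE]
    rw [← hcomm w]
    abel
  refine ⟨{ toFun := fun x => (x.1 - φ x.2, x.2)
            invFun := fun x => (x.1 + φ x.2, x.2)
            map_add' := fun x y => by
              refine Prod.ext ?_ rfl
              simp only [Prod.fst_add, Prod.snd_add, map_add]
              abel
            map_smul' := fun c x => by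
              refine Prod.ext ?_ rfl
              simp [smul_sub]
            left_inv := fun x => by simp
            right_inv := fun x => by simp }, fun x => ?_⟩
  refine Prod.ext ?_ rfl
  show T₁ x.1 + K x.2 - φ (T₂ x.2) = T₁ (x.1 - φ x.2)
  rw [map_sub, ← hφ x.2]
  abel

/-- The product of cyclic endomorphisms with coprime annihilators is cyclic. -/
theorem Cyc.prod [FiniteDimensional F V] [FiniteDimensional F W] {T₁ : Module.End F V} {T₂ : Module.End F W}
    {f₁ f₂ : F[X]} {v₁ : V} {v₂ : W} (h₁ : Cyc T₁ f₁ v₁) (h₂ : Cyc T₂ f₂ v₂) (hco : IsCoprime f₁ f₂) :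
    Cyc (T₁.prodMap T₂) (f₁ * f₂) (v₁, v₂) := by
  have hfst : ∀ p x, (aeval (T₁.prodMap T₂) p x).1 = aeval T₁ p x.1 := fun p x =>
    map_aeval (LinearMap.fst F V W) (T := T₁.prodMap T₂) (S := T₁) (fun _ => rfl) p x
  have hsnd : ∀ p x, (aeval (T₁.prodMap T₂) p x).2 = aeval T₂ p x.2 := fun p x =>
    map_aeval (LinearMap.snd F V W) (T := T₁.prodMap T₂) (S := T₂) (fun _ => rfl) p x
  refine ⟨h₁.monic.mul h₂.monic, ?_, ?_, fun S hS hv => ?_⟩
  · rw [h₁.monic.natDegree_mul h₂.monic, h₁.deg, h₂.deg, Module.finrank_prod]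
  · refine Prod.ext ?_ ?_
    · rw [hfst, mul_comm, map_mul, Module.End.mul_apply, h₁.annih, map_zero]; rfl
    · rw [hsnd, map_mul, Module.End.mul_apply, h₂.annih, map_zero]; rfl
  · obtain ⟨a, b, hab⟩ := hco
    have hu := mem_aeval hS (b * f₂) hv
    have hu1 : aeval (T₁.prodMap T₂) (b * f₂) (v₁, v₂) = (v₁, 0) := by
      refine Prod.ext ?_ ?_
      · rw [hfst]
        have h := congrArg (fun p => aeval T₁ p v₁) hab
        simp only [map_add, map_mul, map_one, LinearMap.add_apply, Module.End.mul_apply, h₁.annih, map_zero,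
          zero_add, Module.End.one_apply] at h
        rw [map_mul, Module.End.mul_apply]
        exact h
      · rw [hsnd, map_mul, Module.End.mul_apply, h₂.annih, map_zero]
    rw [hu1] at hu
    have hv2 : ((0 : V), v₂) ∈ S := by simpa using S.sub_mem hv hu
    have e1 := h₁.gen (S.comap (LinearMap.inl F V W)) (fun x hx => by
      simpa using hS _ hx) (by simpa using hu)
    have e2 := h₂.gen (S.comap (LinearMap.inr F V W)) (fun x hx => by
      simpa using hS _ hx) (by simpa using hv2)
    refine eq_top_iff.2 fun x _ => ?_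
    have m1 : x.1 ∈ S.comap (LinearMap.inl F V W) := e1 ▸ Submodule.mem_top
    have m2 : x.2 ∈ S.comap (LinearMap.inr F V W) := e2 ▸ Submodule.mem_top
    simpa using S.add_mem (Submodule.mem_comap.1 m1) (Submodule.mem_comap.1 m2)

end Cfsg.Agent.Lib.Sourour.Small
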