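import Cfsg.Agent.Lib.Sourour.Small.Big
import Cfsg.Agent.Lib.Sourour.Blk

/-!
Scalar, Jordan and quadratic models, cyclic summands, and gluing.
-/

set_option autoImplicit false

namespace Cfsg.Agent.Lib.Sourour.Small

open Polynomial Module

variable {F : Type*} [Field F]
variable {V W : Type*} [AddCommGroup V] [Module F V] [FiniteDimensional F V] [AddCommGroup W] [Module F W]
  [FiniteDimensional F W]

theorem Cyc.charpoly {T : Module.End F V} {f : F[X]} {v : V} (h : Cyc T f v) : T.charpoly = f := by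
  have h1 : aeval T (T.charpoly %ₘ f) v = 0 := by
    rw [h.eval_mod, LinearMap.aeval_self_charpoly, LinearMap.zero_apply]
  have h2 : T.charpoly %ₘ f = 0 := by
    have hmem : T.charpoly %ₘ f ∈ degreeLT F f.natDegree := by
      rw [mem_degreeLT, ← degree_eq_natDegree h.monic.ne_zero]
      exact degree_modByMonic_lt _ h.monic
    have := h.bijective.1 (a₁ := ⟨_, hmem⟩) (a₂ := 0) (by
      rw [map_zero]
      exact h1)
    exact congrArg Subtype.val this
  refine (eq_of_monic_of_dvd_of_natDegree_le h.monic T.charpoly_monic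
    ((modByMonic_eq_zero_iff_dvd h.monic).1 h2) ?_)
  rw [LinearMap.charpoly_natDegree, h.deg]

theorem Cyc.det {T : Module.End F V} {f : F[X]} {v : V} (h : Cyc T f v) :
    LinearMap.det T = (-1) ^ finrank F V * f.coeff 0 := by
  rw [LinearMap.det_eq_sign_charpoly_coeff, h.charpoly]

theorem Cyc.coeff_zero {T : Module.End F V} {f : F[X]} {v : V} (h : Cyc T f v) :
    f.coeff 0 = (-1) ^ finrank F V * LinearMap.det T := by
  rw [h.det, ← mul_assoc, ← mul_pow, neg_mul_neg, mul_one, one_pow, one_mul]

theorem cyc_charpoly {T : Module.End F V} {v : V}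
    (hv : ∀ S : Submodule F V, (∀ x ∈ S, T x ∈ S) → v ∈ S → S = ⊤) : Cyc T T.charpoly v where
  monic := T.charpoly_monic
  deg := LinearMap.charpoly_natDegree T
  annih := by rw [LinearMap.aeval_self_charpoly, LinearMap.zero_apply]
  gen := hv

theorem injective_of_coprime {T : Module.End F V} {f g : F[X]} (hf : aeval T f = 0) (h : IsCoprime f g) :
    ∀ x, aeval T g x = 0 → x = 0 := by
  intro x hx
  obtain ⟨a, b, hab⟩ := h
  have h1 := congrArg (fun p => aeval T p x) hab
  simpa [hf, hx] using h1.symm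

/-- The scalar on a line. -/
def sc (c : F) : Module.End F (Fin 1 → F) := c • 1

theorem det_sc (c : F) : LinearMap.det (sc c) = c := by
  rw [sc, LinearMap.det_smul, Module.finrank_fin_fun, pow_one, map_one, mul_one]

theorem cyc_sc (c : F) : Cyc (sc c) (X - C c) (fun _ => 1 : Fin 1 → F) :=
  cyc_one _ c (Module.finrank_fin_fun F) (fun _ => rfl) (fun h => one_ne_zero (congrFun h 0))

/-- The Jordan matrix. -/
def jmat (e : F) (n : ℕ) : Matrix (Fin n) (Fin n) F :=
  Matrix.of fun i j => if i = j then e else if i.val + 1 = j.val then 1 else 0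

theorem jmat_upper (e : F) (n : ℕ) : ∀ i j : Fin n, j < i → jmat e n i j = 0 := by
  intro i j h
  have h' : j.val < i.val := h
  simp [jmat, h.ne', show ¬(i.val + 1 = j.val) by omega]

theorem prod_diag_jmat (e : F) (n : ℕ) : ∏ i, jmat e n i i = e ^ n := by
  simp [jmat]

/-- The Jordan endomorphism. -/
noncomputable def jd (e : F) (n : ℕ) : Module.End F (Fin n → F) := Matrix.toLin' (jmat e n)

theorem det_jd (e : F) (n : ℕ) : LinearMap.det (jd e n) = e ^ n := by
  rw [jd, LinearMap.det_toLin', Matrix.det_of_isUpperTriangular (fun i j h => jmat_upper e n i j h), prod_diag_jmat]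

theorem jd_apply (e : F) (n : ℕ) (x : Fin n → F) (i : Fin n) :
    jd e n x i = e * x i + if h : i.val + 1 < n then x ⟨i.val + 1, h⟩ else 0 := by
  rw [jd, Matrix.toLin'_apply, Matrix.mulVec, dotProduct]
  by_cases h : i.val + 1 < n
  · have hne : i ≠ ⟨i.val + 1, h⟩ := fun he => by have := congrArg Fin.val he; simp at this
    rw [dif_pos h, Finset.sum_eq_add i ⟨i.val + 1, h⟩ hne]
    · simp [jmat, hne]
    · intro l _ hl
      have : ¬(i.val + 1 = l.val) := fun he => hl.2 (Fin.ext he.symm)
      simp [jmat, hl.1.symm, this]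
    · simp
    · simp
  · rw [dif_neg h, add_zero, Finset.sum_eq_single i]
    · simp [jmat]
    · intro l _ hl
      have := l.isLt
      simp [jmat, hl.symm, show ¬(i.val + 1 = l.val) by omega]
    · simp

theorem jd_sub_pow (e : F) (n : ℕ) (t : ℕ) (x : Fin n → F) (i : Fin n) :
    (aeval (jd e n) ((X - C e) ^ t) x) i = if h : i.val + t < n then x ⟨i.val + t, h⟩ else 0 := by
  induction t generalizing i with
  | zero => simp
  | succ t ih =>
    rw [pow_succ', map_mul, Module.End.mul_apply, map_sub, aeval_X, aeval_C, LinearMap.sub_apply,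
      Module.algebraMap_end_apply, Pi.sub_apply, Pi.smul_apply, smul_eq_mul, jd_apply, add_sub_cancel_left]
    by_cases h : i.val + 1 < n
    · rw [dif_pos h, ih]
      by_cases h' : i.val + (t + 1) < n
      · rw [dif_pos h', dif_pos (show (i.val + 1) + t < n by omega)]
        congr 1
        ext
        simp
        omega
      · rw [dif_neg h', dif_neg (show ¬((i.val + 1) + t < n) by omega)]
    · rw [dif_neg h, dif_neg (show ¬(i.val + (t + 1) < n) by omega)]

theorem aeval_jd (e : F) (n : ℕ) : aeval (jd e n) ((X - C e) ^ n) = 0 :=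
  LinearMap.ext fun x => funext fun i => by
    rw [jd_sub_pow, dif_neg (show ¬(i.val + n < n) by omega)]
    rfl

theorem cyc_jd (e : F) (n : ℕ) : Cyc (jd e n) ((X - C e) ^ n) (fun i : Fin n => if i.val + 1 = n then 1 else 0) where
  monic := (monic_X_sub_C e).pow n
  deg := by rw [natDegree_pow, natDegree_X_sub_C, mul_one, Module.finrank_fin_fun]
  annih := by rw [aeval_jd, LinearMap.zero_apply]
  gen := by
    intro S hS hv
    have hmem : ∀ j : Fin n, Pi.single j (1 : F) ∈ S := by
      intro j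
      have h := mem_aeval hS ((X - C e) ^ (n - 1 - j.val)) hv
      have he : aeval (jd e n) ((X - C e) ^ (n - 1 - j.val)) (fun i : Fin n => if i.val + 1 = n then (1 : F) else 0) =
          Pi.single j 1 := by
        funext i
        rw [jd_sub_pow]
        by_cases hij : i = j
        · subst hij
          rw [Pi.single_eq_same, dif_pos (show i.val + (n - 1 - i.val) < n by omega),
            if_pos (show i.val + (n - 1 - i.val) + 1 = n by omega)]
        · have hne : i.val ≠ j.val := fun h => hij (Fin.ext h)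
          rw [Pi.single_eq_of_ne hij]
          split_ifs with h1 h2
          · simp at h2
            omega
          · rfl
          · rfl
      rwa [he] at h
    refine eq_top_iff.2 fun x _ => ?_
    rw [pi_eq_sum_univ' x]
    exact S.sum_mem fun j _ => S.smul_mem _ (hmem j)

/-- The quadratic endomorphism. -/
noncomputable def qd (α γ : F) : Module.End F (Fin 2 → F) := Matrix.toLin' (quad 0 α γ)

theorem det_qd (α γ : F) : LinearMap.det (qd α γ) = γ := by rw [qd, LinearMap.det_toLin', det_quad]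

/-- `X² + α X + γ`. -/
noncomputable def qpoly (α γ : F) : F[X] := X ^ 2 + C α * X + C γ

theorem qpoly_natDegree (α γ : F) : (qpoly α γ).natDegree = 2 := by unfold qpoly; compute_degree!

theorem qpoly_monic (α γ : F) : (qpoly α γ).Monic := by unfold qpoly; monicity!

theorem cyc_quad (u α γ : F) : Cyc (Matrix.toLin' (quad u α γ)) (qpoly α γ) (Pi.single 0 1 : Fin 2 → F) where
  monic := qpoly_monic α γ
  deg := by rw [qpoly_natDegree, Module.finrank_fin_fun]
  annih := by rw [qpoly, aeval_quad, LinearMap.zero_apply]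
  gen := by
    intro S hS hv
    have h1 := S.sub_mem (hS _ hv) (S.smul_mem u hv)
    have he : Matrix.toLin' (quad u α γ) (Pi.single 0 1) - u • Pi.single 0 1 = (Pi.single 1 1 : Fin 2 → F) := by
      funext i
      fin_cases i <;> simp [quad, Matrix.toLin'_apply, Matrix.mulVec, dotProduct, Fin.sum_univ_two]
    rw [he] at h1
    refine eq_top_iff.2 fun x _ => ?_
    rw [pi_eq_sum_univ' x, Fin.sum_univ_two]
    exact S.add_mem (S.smul_mem _ hv) (S.smul_mem _ h1)

theorem cyc_qd (α γ : F) : Cyc (qd α γ) (qpoly α γ) (Pi.single 0 1 : Fin 2 → F) := cyc_quad 0 α γ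

/-- Triangular and quadratic to cyclic, in models. -/
theorem move_big {A : Module.End F V} {f : F[X]} {v : V} (hA : Cyc A f v) {k : ℕ} (hk : 1 ≤ k)
    (hdim : finrank F V = k + 2) {T : Matrix (Fin k) (Fin k) F} (hT : ∀ i j, j < i → T i j = 0)
    (hd : ∀ i, T i i ≠ 0) {α γ : F} {r : F[X]} (hr : aeval (Matrix.toLin' T) r = 0)
    (hco : IsCoprime r (qpoly α γ)) {S : Module.End F W} {g : F[X]} {w : W} (hS : Cyc S g w)
    (hdimS : finrank F W = k + 2) (hdet : LinearMap.det A * (∏ i, T i i) * γ = LinearMap.det S) :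
    ∃ B : Module.End F V, EEquiv B ((Matrix.toLin' T).prodMap (qd α γ)) ∧ EEquiv (A * B) S := by
  obtain ⟨B, u, K, hB, hAB⟩ := exists_big hA hk hdim hT hd α γ hS.monic (by rw [hS.deg, hdimS]) (by
    rw [hS.coeff_zero, hA.coeff_zero, ← hdet, hdim, hdimS]
    ring)
  refine ⟨B, hB.trans ((tri_split _ K _ (qpoly α γ) (injective_of_coprime hr hco) (aeval_quad u α γ)).trans
    ((EEquiv.refl _).prodMap ((cyc_quad u α γ).eequiv (cyc_qd α γ)))), hAB.eequiv hS⟩

theorem toLin_blk (e : F) {n : ℕ} (T : Matrix (Fin n) (Fin n) F) :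
    EEquiv (Matrix.toLin' (blk e 0 0 T)) ((sc e).prodMap (Matrix.toLin' T)) := by
  refine ⟨{ toFun := fun x => (fun _ => x 0, fun i => x i.succ)
            invFun := fun y => Fin.cons (y.1 0) y.2
            map_add' := fun x y => rfl
            map_smul' := fun c x => rfl
            left_inv := fun x => cons_tail_eq x
            right_inv := fun y => Prod.ext (funext fun i => by rw [Subsingleton.elim i 0]; simp) (funext fun i => by simp) },
    fun x => ?_⟩
  have h : Matrix.toLin' (blk e 0 0 T) x = Fin.cons (e * x 0) (Matrix.mulVec T fun i => x i.succ) := by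
    rw [Matrix.toLin'_apply]
    conv_lhs => rw [← cons_tail_eq x, blk_mulVec]
    simp
  refine Prod.ext (funext fun i => ?_) (funext fun i => ?_)
  · show Matrix.toLin' (blk e 0 0 T) x 0 = _
    rw [h]
    simp [sc]
  · show Matrix.toLin' (blk e 0 0 T) x i.succ = _
    rw [h]
    simp

theorem blk_upper (e : F) {n : ℕ} {T : Matrix (Fin n) (Fin n) F} (hT : ∀ i j, j < i → T i j = 0) :
    ∀ i j : Fin (n + 1), j < i → blk e 0 0 T i j = 0 := by
  intro i j
  induction i using Fin.cases <;> induction j using Fin.cases <;> simp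
  exact fun h => hT _ _ h

theorem prod_diag_blk (e : F) {n : ℕ} (T : Matrix (Fin n) (Fin n) F) :
    ∏ i, blk e 0 0 T i i = e * ∏ i, T i i := by
  simp [Fin.prod_univ_succ]

/-- Every endomorphism of a nonzero space has a cyclic summand. -/
theorem exists_cyclic_summand {F : Type} [Field F] {n : ℕ} (hn : 0 < n) (T : Module.End F (Fin n → F)) :
    ∃ (a b : ℕ) (C : Module.End F (Fin a → F)) (R : Module.End F (Fin b → F)) (v : Fin a → F),
      0 < a ∧ a + b = n ∧ EEquiv T (C.prodMap R) ∧ Cyc C C.charpoly v := by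
  classical
  have htor : Module.IsTorsion F[X] (Module.AEval' T) := Module.AEval.isTorsion_of_finiteDimensional F _ T
  obtain ⟨ι, fι, p, hp, e, ⟨Φ⟩⟩ := Module.equiv_directSum_of_isTorsion htor
  let ψ : (i : ι) → (Fin n → F) →ₗ[F] (F[X] ⧸ Ideal.span {p i ^ e i}) := fun i =>
    ((DirectSum.component F[X] ι (fun i => F[X] ⧸ Ideal.span {p i ^ e i}) i).restrictScalars F).comp
      ((Φ.toLinearMap.restrictScalars F).comp (Module.AEval'.of T).toLinearMap)
  let σ : (i : ι) → (F[X] ⧸ Ideal.span {p i ^ e i}) →ₗ[F] (Fin n → F) := fun i =>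
    (Module.AEval'.of T).symm.toLinearMap.comp ((Φ.symm.toLinearMap.restrictScalars F).comp
      ((DirectSum.lof F[X] ι (fun i => F[X] ⧸ Ideal.span {p i ^ e i}) i).restrictScalars F))
  have hψσ : ∀ i z, ψ i (σ i z) = z := by
    intro i z
    show DirectSum.component F[X] ι (fun i => F[X] ⧸ Ideal.span {p i ^ e i}) i
      (Φ (Module.AEval'.of T ((Module.AEval'.of T).symm _))) = z
    rw [LinearEquiv.apply_symm_apply]
    erw [LinearEquiv.apply_symm_apply]
    exact DirectSum.component.lof_self _ _ _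
  have hψT : ∀ i x, ψ i (T x) = Ideal.Quotient.mk _ X * ψ i x := by
    intro i x
    show DirectSum.component F[X] ι (fun i => F[X] ⧸ Ideal.span {p i ^ e i}) i (Φ (Module.AEval'.of T (T x))) = _
    rw [← Module.AEval'.X_smul_of]
    erw [map_smul, map_smul]
    rfl
  have hσT : ∀ i z, T (σ i z) = σ i (Ideal.Quotient.mk _ X * z) := by
    intro i z
    refine (Module.AEval'.of T).injective ?_
    rw [← Module.AEval'.X_smul_of]
    show (X : F[X]) • Module.AEval'.of T ((Module.AEval'.of T).symm _) =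
      Module.AEval'.of T ((Module.AEval'.of T).symm _)
    rw [LinearEquiv.apply_symm_apply, LinearEquiv.apply_symm_apply]
    show (X : F[X]) • Φ.symm (DirectSum.lof F[X] ι _ i z) = Φ.symm (DirectSum.lof F[X] ι _ i (Ideal.Quotient.mk _ X * z))
    rw [← map_smul, ← map_smul]
    rfl
  obtain ⟨i, hi⟩ : ∃ i, ψ i (fun _ => 1) ≠ 0 := by
    by_contra hall
    push Not at hall
    have h0 : Φ (Module.AEval'.of T (fun _ => 1)) = 0 := DirectSum.ext_component F[X] fun i => by
      rw [map_zero]
      exact hall i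
    rw [LinearEquiv.map_eq_zero_iff, LinearEquiv.map_eq_zero_iff] at h0
    exact one_ne_zero (congrFun h0 ⟨0, hn⟩)
  set U := LinearMap.range (σ i) with hU
  set R := LinearMap.ker (ψ i) with hR
  have hcompl : IsCompl U R := by
    refine IsCompl.of_eq ?_ ?_
    · rw [eq_bot_iff]
      rintro x ⟨⟨z, rfl⟩, hx⟩
      have h1 : ψ i (σ i z) = 0 := LinearMap.mem_ker.1 hx
      rw [hψσ] at h1
      rw [Submodule.mem_bot, h1, map_zero]
    · rw [eq_top_iff]
      intro x _
      refine Submodule.mem_sup.2 ⟨σ i (ψ i x), ⟨_, rfl⟩, x - σ i (ψ i x), ?_, add_sub_cancel _ _⟩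
      rw [hR, LinearMap.mem_ker, map_sub, hψσ, sub_self]
  have hTU : ∀ x ∈ U, T x ∈ U := by
    rintro x ⟨z, rfl⟩
    exact ⟨_, (hσT i z).symm⟩
  have hTR : ∀ x ∈ R, T x ∈ R := by
    intro x hx
    rw [hR, LinearMap.mem_ker] at hx ⊢
    rw [hψT, hx, mul_zero]
  let bU := Module.finBasis F U
  let bR := Module.finBasis F R
  let TU : Module.End F U := T.restrict hTU
  let TR : Module.End F R := T.restrict hTR
  let C : Module.End F (Fin (finrank F U) → F) :=
    (bU.equivFun : U →ₗ[F] _) ∘ₗ TU ∘ₗ (bU.equivFun.symm : _ →ₗ[F] U)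
  let R' : Module.End F (Fin (finrank F R) → F) :=
    (bR.equivFun : R →ₗ[F] _) ∘ₗ TR ∘ₗ (bR.equivFun.symm : _ →ₗ[F] R)
  have hone : σ i 1 ∈ U := ⟨1, rfl⟩
  refine ⟨_, _, C, R', bU.equivFun ⟨σ i 1, hone⟩, ?_, ?_, ?_, ?_⟩
  · rw [Module.finrank_pos_iff_exists_ne_zero]
    exact ⟨⟨σ i (ψ i fun _ => 1), ⟨_, rfl⟩⟩, fun h => hi (by
      have h' := congrArg (fun u : U => ψ i (u : Fin n → F)) h
      simpa [hψσ] using h')⟩
  · rw [Submodule.finrank_add_eq_of_isCompl hcompl, Module.finrank_fin_fun]
  · have e1 : EEquiv T (TU.prodMap TR) := EEquiv.symm ⟨Submodule.prodEquivOfIsCompl U R hcompl, fun x => by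
      show (T x.1 : Fin n → F) + T x.2 = T ((x.1 : Fin n → F) + x.2)
      rw [map_add]⟩
    exact e1.trans (EEquiv.prodMap ⟨bU.equivFun, fun x => by simp [C]⟩ ⟨bR.equivFun, fun x => by simp [R']⟩)
  · refine cyc_charpoly fun S hS hv => ?_
    refine eq_top_iff.2 fun y hy => ?_
    clear hy
    obtain ⟨⟨x, ⟨z, rfl⟩⟩, rfl⟩ := bU.equivFun.surjective y
    obtain ⟨g, rfl⟩ := Ideal.Quotient.mk_surjective z
    induction g using Polynomial.induction_on with
    | C a =>
      have h := S.smul_mem a hv
      rw [← map_smul] at h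
      convert h using 2
      ext1
      show σ i (Ideal.Quotient.mk _ (Polynomial.C a)) = a • σ i 1
      rw [← map_smul]
      congr 1
      rw [← map_one (Ideal.Quotient.mk (Ideal.span {p i ^ e i}))]
      show _ = Ideal.Quotient.mk _ (a • (1 : F[X]))
      rw [Polynomial.smul_eq_C_mul, mul_one]
    | add g g' hg hg' =>
      have h := S.add_mem hg hg'
      rw [← map_add] at h
      convert h using 2
      ext1
      show σ i (Ideal.Quotient.mk _ (g + g')) = σ i _ + σ i _
      rw [map_add, map_add]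
    | monomial k a ih =>
      have h := hS _ ih
      convert h using 1
      simp only [C, LinearMap.comp_apply, LinearEquiv.coe_coe, LinearEquiv.symm_apply_apply]
      congr 1
      ext1
      show σ i (Ideal.Quotient.mk _ (Polynomial.C a * X ^ (k + 1))) = T (σ i _)
      rw [hσT, ← map_mul]
      congr 2
      ring

/-- Gluing two cyclic endomorphisms by a coupling of rank one. -/
theorem exists_glue {T₁ : Module.End F V} {T₂ : Module.End F W} {f₁ f₂ : F[X]} {v₁ : V} {v₂ : W}
    (h₁ : Cyc T₁ f₁ v₁) (h₂ : Cyc T₂ f₂ v₂) (hpos : 0 < f₂.natDegree) :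
    ∃ K : W →ₗ[F] V, Cyc (tri T₁ K T₂) (f₁ * f₂) ((0 : V), v₂) := by
  let E := LinearEquiv.ofBijective _ h₂.bijective
  obtain ⟨d, hd⟩ : ∃ d, f₂.natDegree = d + 1 := ⟨f₂.natDegree - 1, by omega⟩
  let φ : W →ₗ[F] F := ((lcoeff F d).comp (degreeLT F f₂.natDegree).subtype).comp E.symm.toLinearMap
  refine ⟨φ.smulRight v₁, ?_⟩
  set K := φ.smulRight v₁
  set B := tri T₁ K T₂ with hB
  have hφ : ∀ j, j ≤ d → φ ((T₂ ^ j) v₂) = if j = d then 1 else 0 := by
    intro j hj
    have hmem : (X : F[X]) ^ j ∈ degreeLT F f₂.natDegree := by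
      rw [mem_degreeLT, degree_X_pow]
      exact_mod_cast (by omega : j < f₂.natDegree)
    have he : E.symm ((T₂ ^ j) v₂) = ⟨X ^ j, hmem⟩ := by
      rw [LinearEquiv.symm_apply_eq]
      show _ = aeval T₂ ((X : F[X]) ^ j) v₂
      rw [aeval_X_pow]
    simp [φ, he, coeff_X_pow, eq_comm]
  have hpow : ∀ j, j ≤ d + 1 → (B ^ j) ((0 : V), v₂) = (if j = d + 1 then v₁ else 0, (T₂ ^ j) v₂) := by
    intro j
    induction j with
    | zero => intro _; simp
    | succ j ih =>
      intro hj
      rw [pow_succ', Module.End.mul_apply, ih (by omega), if_neg (by omega), hB, tri_apply, map_zero, zero_add,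
        pow_succ', Module.End.mul_apply]
      refine Prod.ext ?_ rfl
      show K ((T₂ ^ j) v₂) = _
      simp only [K, LinearMap.smulRight_apply, hφ j (by omega)]
      split_ifs with h h' h'
      · rw [one_smul]
      · omega
      · omega
      · rw [zero_smul]
  have hinl : ∀ (p : F[X]) (a : V), aeval B p (a, (0 : W)) = (aeval T₁ p a, 0) := fun p a =>
    (map_aeval (LinearMap.inl F V W) (S := B) (fun x => by simp [hB, tri_apply]) p a).symm
  have hf2 : aeval B f₂ ((0 : V), v₂) = (v₁, 0) := by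
    have h := h₂.annih
    rw [aeval_eq_sum_range, LinearMap.sum_apply] at h
    rw [aeval_eq_sum_range, LinearMap.sum_apply]
    refine Prod.ext ?_ ?_
    · rw [Prod.fst_sum, Finset.sum_eq_single (d + 1)]
      · rw [LinearMap.smul_apply, Prod.smul_fst, hpow (d + 1) le_rfl, if_pos rfl, ← hd,
          h₂.monic.coeff_natDegree, one_smul]
      · intro j hj hne
        rw [Finset.mem_range] at hj
        rw [LinearMap.smul_apply, Prod.smul_fst, hpow j (by omega), if_neg hne, smul_zero]
      · intro hnot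
        exact absurd (Finset.mem_range.2 (by omega)) hnot
    · rw [Prod.snd_sum]
      refine (Finset.sum_congr rfl fun j hj => ?_).trans h
      rw [Finset.mem_range] at hj
      rw [LinearMap.smul_apply, Prod.smul_snd, hpow j (by omega), LinearMap.smul_apply]
  refine ⟨h₁.monic.mul h₂.monic, ?_, ?_, fun S hS hv => ?_⟩
  · rw [h₁.monic.natDegree_mul h₂.monic, h₁.deg, h₂.deg, Module.finrank_prod]
  · rw [map_mul, Module.End.mul_apply, hf2, hinl, h₁.annih, Prod.mk_zero_zero]
  · have hv1 : (v₁, (0 : W)) ∈ S := hf2 ▸ mem_aeval hS f₂ hv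
    have e1 := h₁.gen (S.comap (LinearMap.inl F V W)) (fun x hx => by
      have := hS _ hx
      simpa [hB, tri_apply] using this) hv1
    have hV : ∀ a : V, (a, (0 : W)) ∈ S := fun a => by
      have : a ∈ S.comap (LinearMap.inl F V W) := e1 ▸ Submodule.mem_top
      simpa using this
    have e2 := h₂.gen (S.map (LinearMap.snd F V W)) (by
      rintro _ ⟨x, hx, rfl⟩
      exact ⟨B x, hS _ hx, rfl⟩) ⟨_, hv, rfl⟩
    refine eq_top_iff.2 fun x _ => ?_
    obtain ⟨y, hy, hyx⟩ : x.2 ∈ S.map (LinearMap.snd F V W) := e2 ▸ Submodule.mem_top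
    have h := S.add_mem hy (hV (x.1 - y.1))
    rwa [show y + ((x.1 - y.1), (0 : W)) = x from Prod.ext (add_sub_cancel y.1 x.1)
      (by rw [Prod.snd_add, add_zero]; exact hyx)] at h

end Cfsg.Agent.Lib.Sourour.Small
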