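import Cfsg.Agent.Lib.Sourour.Small.Equiv

/-!
Commutators from self-similar products: bookkeeping for the block argument over the fields with two and three
elements.
-/

set_option autoImplicit false

namespace Cfsg.Agent.Lib.Sourour.Small

open Module

variable {F : Type*} [Field F]
variable {V W V' W' U U' : Type*} [AddCommGroup V] [Module F V] [AddCommGroup W] [Module F W] [AddCommGroup V']
  [Module F V'] [AddCommGroup W'] [Module F W'] [AddCommGroup U] [Module F U] [AddCommGroup U'] [Module F U']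
variable [FiniteDimensional F V] [FiniteDimensional F W] [FiniteDimensional F V'] [FiniteDimensional F W']
  [FiniteDimensional F U] [FiniteDimensional F U']

/-- The centraliser of `B` has elements of every nonzero determinant. -/
def Flex (B : Module.End F V) : Prop := ∀ t : F, t ≠ 0 → ∃ d : Module.End F V, Commute d B ∧ LinearMap.det d = t

theorem Flex.of_equiv {T : Module.End F V} {S : Module.End F W} (hT : Flex T) (h : EEquiv T S) : Flex S := by
  obtain ⟨e, he⟩ := h
  intro t ht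
  obtain ⟨d, hd, hdt⟩ := hT t ht
  refine ⟨(e : V →ₗ[F] W) ∘ₗ d ∘ₗ (e.symm : W →ₗ[F] V), ?_, by rw [← hdt]; exact LinearMap.det_conj d e⟩
  refine LinearMap.ext fun y => ?_
  obtain ⟨x, rfl⟩ := e.surjective y
  have h1 : d (T x) = T (d x) := LinearMap.congr_fun hd x
  simp only [Module.End.mul_apply, LinearMap.comp_apply, LinearEquiv.coe_coe, e.symm_apply_apply]
  rw [← he x, e.symm_apply_apply, h1, he]

theorem Flex.prod_left {T : Module.End F V} (hT : Flex T) (S : Module.End F W) : Flex (T.prodMap S) := by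
  intro t ht
  obtain ⟨d, hd, hdt⟩ := hT t ht
  refine ⟨d.prodMap LinearMap.id, ?_, ?_⟩
  · refine LinearMap.ext fun x => Prod.ext ?_ rfl
    exact LinearMap.congr_fun hd x.1
  · rw [LinearMap.det_prodMap, hdt, LinearMap.det_id, mul_one]

theorem Flex.prod_right (T : Module.End F V) {S : Module.End F W} (hS : Flex S) : Flex (T.prodMap S) :=
  (hS.prod_left T).of_equiv (EEquiv.prod_comm S T)

theorem flex_of_finrank_one (B : Module.End F V) (hV : finrank F V = 1) : Flex B := by
  intro t _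
  refine ⟨t • LinearMap.id, (Commute.one_left B).smul_left t, ?_⟩
  rw [LinearMap.det_smul, LinearMap.det_id, hV, pow_one, mul_one]

/-- `A = a b a⁻¹ b⁻¹` with both determinants one. -/
def CommE (A : Module.End F V) : Prop :=
  ∃ a b : Module.End F V, LinearMap.det a = 1 ∧ LinearMap.det b = 1 ∧ A * (b * a) = a * b

/-- Some `B` of determinant `ε` is similar to `A * B`. -/
def Self (A : Module.End F V) (ε : F) : Prop :=
  ∃ B : Module.End F V, LinearMap.det B = ε ∧ EEquiv (A * B) B

/-- The same with a centraliser of full determinant. -/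
def Opt (A : Module.End F V) (ε : F) : Prop :=
  ∃ B : Module.End F V, LinearMap.det B = ε ∧ EEquiv (A * B) B ∧ Flex B

theorem Opt.self {A : Module.End F V} {ε : F} (h : Opt A ε) : Self A ε := by
  obtain ⟨B, h1, h2, -⟩ := h
  exact ⟨B, h1, h2⟩

theorem EEquiv.commE {A : Module.End F V} {A' : Module.End F W} (h : EEquiv A A') (hA : CommE A) : CommE A' := by
  obtain ⟨e, he⟩ := h
  obtain ⟨a, b, ha, hb, hab⟩ := hA
  refine ⟨(e : V →ₗ[F] W) ∘ₗ a ∘ₗ (e.symm : W →ₗ[F] V), (e : V →ₗ[F] W) ∘ₗ b ∘ₗ (e.symm : W →ₗ[F] V),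
    by rw [← ha]; exact LinearMap.det_conj a e, by rw [← hb]; exact LinearMap.det_conj b e, ?_⟩
  refine LinearMap.ext fun y => ?_
  obtain ⟨x, rfl⟩ := e.surjective y
  have h1 := LinearMap.congr_fun hab x
  simp only [Module.End.mul_apply, LinearMap.comp_apply, LinearEquiv.coe_coe, e.symm_apply_apply] at h1 ⊢
  rw [← he, h1]

theorem Opt.commE {A : Module.End F V} (h : Opt A 1) : CommE A := by
  obtain ⟨B, hB, ⟨e, he⟩, hflex⟩ := h
  have he0 : LinearMap.det (e : V →ₗ[F] V) ≠ 0 := e.isUnit_det'.ne_zero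
  obtain ⟨d, hd, hdt⟩ := hflex (LinearMap.det (e : V →ₗ[F] V)) he0
  have hA : A * B * (e.symm : V →ₗ[F] V) = (e.symm : V →ₗ[F] V) * B := by
    refine LinearMap.ext fun x => e.injective ?_
    simp only [Module.End.mul_apply, LinearEquiv.coe_coe]
    rw [show A (B (e.symm x)) = (A * B) (e.symm x) from rfl, he, e.apply_symm_apply, e.apply_symm_apply]
  refine ⟨(e.symm : V →ₗ[F] V) * d, B, ?_, hB, ?_⟩
  · rw [map_mul, hdt, mul_comm, ← map_mul]
    have : (e : V →ₗ[F] V) * (e.symm : V →ₗ[F] V) = 1 := LinearMap.ext fun x => e.apply_symm_apply x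
    rw [this, map_one]
  · rw [← mul_assoc B, ← mul_assoc A, ← mul_assoc A B, hA, mul_assoc, ← hd.eq, mul_assoc]

theorem EEquiv.opt {A : Module.End F V} {A' : Module.End F W} (h : EEquiv A A') {ε : F} (hA : Opt A ε) :
    Opt A' ε := by
  obtain ⟨e, he⟩ := h
  obtain ⟨B, hB, hAB, hflex⟩ := hA
  let B' : Module.End F W := (e : V →ₗ[F] W) ∘ₗ B ∘ₗ (e.symm : W →ₗ[F] V)
  have h1 : EEquiv B B' := ⟨e, fun x => by simp [B']⟩
  have h2 : EEquiv (A * B) (A' * B') := ⟨e, fun x => by simp [B', he]⟩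
  exact ⟨B', by rw [← h1.det, hB], h2.symm.trans (hAB.trans h1), hflex.of_equiv h1⟩

theorem EEquiv.self {A : Module.End F V} {A' : Module.End F W} (h : EEquiv A A') {ε : F} (hA : Self A ε) :
    Self A' ε := by
  obtain ⟨e, he⟩ := h
  obtain ⟨B, hB, hAB⟩ := hA
  let B' : Module.End F W := (e : V →ₗ[F] W) ∘ₗ B ∘ₗ (e.symm : W →ₗ[F] V)
  have h1 : EEquiv B B' := ⟨e, fun x => by simp [B']⟩
  have h2 : EEquiv (A * B) (A' * B') := ⟨e, fun x => by simp [B', he]⟩
  exact ⟨B', by rw [← h1.det, hB], h2.symm.trans (hAB.trans h1)⟩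

theorem prodMap_mul' (A : Module.End F V) (A' : Module.End F W) (B : Module.End F V) (B' : Module.End F W) :
    A.prodMap A' * B.prodMap B' = (A * B).prodMap (A' * B') := rfl

theorem Self.prod {A : Module.End F V} {A' : Module.End F W} {ε ε' : F} (h : Self A ε) (h' : Self A' ε') :
    Self (A.prodMap A') (ε * ε') := by
  obtain ⟨B, hB, hAB⟩ := h
  obtain ⟨B', hB', hAB'⟩ := h'
  exact ⟨B.prodMap B', by rw [LinearMap.det_prodMap, hB, hB'], by rw [prodMap_mul']; exact hAB.prodMap hAB'⟩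

theorem Opt.prod_self {A : Module.End F V} {A' : Module.End F W} {ε ε' : F} (h : Opt A ε) (h' : Self A' ε') :
    Opt (A.prodMap A') (ε * ε') := by
  obtain ⟨B, hB, hAB, hflex⟩ := h
  obtain ⟨B', hB', hAB'⟩ := h'
  exact ⟨B.prodMap B', by rw [LinearMap.det_prodMap, hB, hB'], by rw [prodMap_mul']; exact hAB.prodMap hAB',
    hflex.prod_left B'⟩

/-- `A * B` is like `T` for some `B` like `S`. -/
def Move (A : Module.End F V) (S : Module.End F U) (T : Module.End F U') : Prop :=
  ∃ B : Module.End F V, EEquiv B S ∧ EEquiv (A * B) T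

theorem Move.of_equiv {A : Module.End F V} {A' : Module.End F W} (h : EEquiv A A') {S : Module.End F U}
    {T : Module.End F U'} (hA : Move A S T) : Move A' S T := by
  obtain ⟨e, he⟩ := h
  obtain ⟨B, hBS, hAB⟩ := hA
  let B' : Module.End F W := (e : V →ₗ[F] W) ∘ₗ B ∘ₗ (e.symm : W →ₗ[F] V)
  have h1 : EEquiv B B' := ⟨e, fun x => by simp [B']⟩
  have h2 : EEquiv (A * B) (A' * B') := ⟨e, fun x => by simp [B', he]⟩
  exact ⟨B', h1.symm.trans hBS, h2.symm.trans hAB⟩

theorem Move.self {A : Module.End F V} {S : Module.End F U} {ε : F} (h : Move A S S) (hε : LinearMap.det S = ε) :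
    Self A ε := by
  obtain ⟨B, hBS, hAB⟩ := h
  exact ⟨B, by rw [hBS.det, hε], hAB.trans hBS.symm⟩

theorem Move.opt {A : Module.End F V} {S : Module.End F U} {ε : F} (h : Move A S S) (hε : LinearMap.det S = ε)
    (hflex : Flex S) : Opt A ε := by
  obtain ⟨B, hBS, hAB⟩ := h
  exact ⟨B, by rw [hBS.det, hε], hAB.trans hBS.symm, hflex.of_equiv hBS.symm⟩

theorem Move.pair {A : Module.End F V} {A' : Module.End F W} {S T : Module.End F U} {S' T' : Module.End F U'}
    (h : Move A S T) (h' : Move A' S' T') (hST : EEquiv (T.prodMap T') (S.prodMap S')) :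
    Move (A.prodMap A') (S.prodMap S') (S.prodMap S') := by
  obtain ⟨B, hBS, hAB⟩ := h
  obtain ⟨B', hBS', hAB'⟩ := h'
  exact ⟨B.prodMap B', hBS.prodMap hBS', by rw [prodMap_mul']; exact (hAB.prodMap hAB').trans hST⟩

end Cfsg.Agent.Lib.Sourour.Small
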