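import Cfsg.Agent.Lib.Sourour.Small.Cert

/-!
Every element of `SL_n(3)`, `n ≥ 3`, is a commutator.
-/

set_option autoImplicit false

namespace Cfsg.Agent.Lib.Sourour.Small.Three

open Polynomial Module

/-- The field with three elements. -/
abbrev K := ZMod 3

variable {V W : Type} [AddCommGroup V] [Module K V] [FiniteDimensional K V] [AddCommGroup W] [Module K W]
  [FiniteDimensional K W]

theorem flex_of_elem {B : Module.End K V} (d : Module.End K V) (hd : Commute d B) (hdet : LinearMap.det d = 2) :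
    Flex B := by
  intro t ht
  rcases (show t = 1 ∨ t = 2 by revert t; decide) with rfl | rfl
  · exact ⟨1, Commute.one_left B, map_one _⟩
  · exact ⟨d, hd, hdet⟩

theorem flex_of_matrix {a : ℕ} {B : Matrix (Fin a) (Fin a) K} (D : Matrix (Fin a) (Fin a) K) (hD : D * B = B * D)
    (hdet : D.det = 2) : Flex (Matrix.toLin' B) :=
  flex_of_elem (Matrix.toLin' D) (by rw [commute_iff_eq, mul_toLin', mul_toLin', hD])
    (by rw [LinearMap.det_toLin', hdet])

theorem flex_qd (α γ : K) (h : γ = 2 ∨ α = 0 ∧ γ = 1) : Flex (qd α γ) := by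
  rcases h with rfl | ⟨rfl, rfl⟩
  · exact flex_of_elem (qd α 2) (Commute.refl _) (det_qd α 2)
  · exact flex_of_matrix (1 + quad 0 0 1) (by decide +kernel) (by decide +kernel)

/-- The quadratic with given constant and no roots. -/
def al (γ : K) : K := if γ = 1 then 0 else 1

theorem al_ok (γ : K) (hγ : γ ≠ 0) : γ = 2 ∨ al γ = 0 ∧ γ = 1 := by revert γ; decide

theorem no_root (e : K) (he : e ≠ 0) (γ : K) (hγ : γ ≠ 0) : e ^ 2 + al γ * e + γ ≠ 0 := by
  revert e γ; decide

theorem co_al (e : K) (he : e ≠ 0) (γ : K) (hγ : γ ≠ 0) (r : ℕ) : IsCoprime ((X - C e) ^ r) (qpoly (al γ) γ) :=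
  (coprime_lin_quad (no_root e he γ hγ)).pow_left

theorem ne_zero_two : (2 : K) ≠ 0 := by decide

/-- A cyclic block of determinant one and size at least three. -/
theorem big_one {a : ℕ} (ha : 3 ≤ a) {A : Module.End K (Fin a → K)} {f : K[X]} {v : Fin a → K} (hA : Cyc A f v)
    (hdet : LinearMap.det A = 1) (ε : K) (hε : ε ≠ 0) : Opt A ε := by
  obtain ⟨k, rfl⟩ : ∃ k, a = k + 2 := ⟨a - 2, by omega⟩
  obtain ⟨B, hB, hAB⟩ := move_big hA (k := k) (by omega) (Module.finrank_fin_fun K) (T := jmat (1 : K) k)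
    (jmat_upper 1 k) (fun i => by simp [jmat]) (α := al ε) (γ := ε) (aeval_jd 1 k) (co_al 1 one_ne_zero ε hε k)
    ((cyc_jd (1 : K) k).prod (cyc_qd (al ε) ε) (co_al 1 one_ne_zero ε hε k))
    (by rw [Module.finrank_prod, Module.finrank_fin_fun, Module.finrank_fin_fun])
    (by rw [hdet, prod_diag_jmat, LinearMap.det_prodMap, det_jd, det_qd]; ring)
  refine Move.opt (S := (jd (1 : K) k).prodMap (qd (al ε) ε)) ⟨B, hB, hAB⟩ ?_
    (Flex.prod_right _ (flex_qd _ _ (al_ok ε hε)))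
  rw [LinearMap.det_prodMap, det_jd, det_qd, one_pow, one_mul]

/-- A cyclic block of determinant `-1` and size at least three exchanges the signs of a singleton. -/
theorem half {a : ℕ} (ha : 3 ≤ a) {A : Module.End K (Fin a → K)} {f : K[X]} {v : Fin a → K} (hA : Cyc A f v)
    (hdet : LinearMap.det A = 2) (e : K) (he : e ≠ 0) (γ : K) (hγ : γ ≠ 0) :
    Move A ((sc e).prodMap ((jd e (a - 3)).prodMap (qd (al γ) γ)))
      ((sc (-e)).prodMap ((jd e (a - 3)).prodMap (qd (al γ) γ))) := by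
  obtain ⟨r, rfl⟩ : ∃ r, a = r + 3 := ⟨a - 3, by omega⟩
  rw [Nat.add_sub_cancel]
  have he2 : -e ≠ e := by revert e; decide
  have hne : -e ≠ 0 := neg_ne_zero.2 he
  have hlin : IsCoprime (X - C (-e)) ((X - C e) ^ r) :=
    (isCoprime_X_sub_C_of_isUnit_sub (isUnit_iff_ne_zero.2 (sub_ne_zero.2 he2))).pow_right
  have hr : aeval ((sc e).prodMap (jd e r)) ((X - C e) ^ (r + 1)) = 0 := by
    refine LinearMap.ext fun x => Prod.ext ?_ ?_
    · have h := map_aeval (LinearMap.fst K _ _) (T := (sc e).prodMap (jd e r)) (S := sc e) (fun _ => rfl)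
        ((X - C e) ^ (r + 1)) x
      rw [LinearMap.fst_apply] at h
      rw [h, pow_succ, map_mul, Module.End.mul_apply]
      simp [sc]
    · have h := map_aeval (LinearMap.snd K _ _) (T := (sc e).prodMap (jd e r)) (S := jd e r) (fun _ => rfl)
        ((X - C e) ^ (r + 1)) x
      rw [LinearMap.snd_apply] at h
      rw [h, pow_succ', map_mul, Module.End.mul_apply, aeval_jd]
      simp
  have hr' : aeval (Matrix.toLin' (blk e 0 0 (jmat e r))) ((X - C e) ^ (r + 1)) = 0 := by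
    obtain ⟨φ, hφ⟩ := toLin_blk_jmat e e r
    refine LinearMap.ext fun x => φ.injective ?_
    have h := map_aeval (φ : (Fin (r + 1) → K) →ₗ[K] (Fin 1 → K) × (Fin r → K)) hφ ((X - C e) ^ (r + 1)) x
    rw [LinearEquiv.coe_coe] at h
    rw [h, hr, LinearMap.zero_apply, LinearMap.zero_apply, map_zero]
  obtain ⟨B, hB, hAB⟩ := move_big hA (k := r + 1) (by omega) (Module.finrank_fin_fun K)
    (T := blk e 0 0 (jmat e r)) (blk_upper e (jmat_upper e r)) (fun i => by
      induction i using Fin.cases <;> simp [jmat, he]) (α := al γ) (γ := γ) hr' (co_al e he γ hγ (r + 1))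
    ((cyc_sc (-e)).prod ((cyc_jd e r).prod (cyc_qd (al γ) γ) (co_al e he γ hγ r))
      (hlin.mul_right (coprime_lin_quad (no_root (-e) hne γ hγ))))
    (by rw [Module.finrank_prod, Module.finrank_prod, Module.finrank_fin_fun, Module.finrank_fin_fun,
      Module.finrank_fin_fun]; omega)
    (by rw [hdet, prod_diag_blk, prod_diag_jmat, LinearMap.det_prodMap, LinearMap.det_prodMap, det_sc, det_jd,
          det_qd, show (2 : K) = -1 by decide]; ring)
  exact ⟨B, hB.trans (((toLin_blk_jmat e e r).prodMap (EEquiv.refl _)).trans (EEquiv.prod_assoc _ _ _)), hAB⟩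

theorem move_neg_one (e : K) : Move (sc (2 : K)) (sc e) (sc (-e)) := by
  refine ⟨sc e, EEquiv.refl _, LinearEquiv.refl K _, fun x => funext fun i => ?_⟩
  simp only [LinearEquiv.refl_apply, sc, Module.End.mul_apply, LinearMap.smul_apply, Module.End.one_apply,
    Pi.smul_apply, smul_eq_mul]
  rw [← mul_assoc, show (2 : K) = -1 by decide]
  ring

theorem swap {U U' P : Type} [AddCommGroup U] [Module K U] [AddCommGroup U'] [Module K U'] [AddCommGroup P]
    [Module K P] (s t : Module.End K P) (X : Module.End K U) (X' : Module.End K U') :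
    EEquiv ((t.prodMap X).prodMap (s.prodMap X')) ((s.prodMap X).prodMap (t.prodMap X')) :=
  ⟨{ toFun := fun x => ((x.2.1, x.1.2), (x.1.1, x.2.2))
     invFun := fun x => ((x.2.1, x.1.2), (x.1.1, x.2.2))
     map_add' := fun _ _ => rfl
     map_smul' := fun _ _ => rfl
     left_inv := fun _ => rfl
     right_inv := fun _ => rfl }, fun _ => rfl⟩

theorem swap_one {U P : Type} [AddCommGroup U] [Module K U] [AddCommGroup P] [Module K P] (s t : Module.End K P)
    (X : Module.End K U) : EEquiv ((t.prodMap X).prodMap s) ((s.prodMap X).prodMap t) :=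
  ⟨{ toFun := fun x => ((x.2, x.1.2), x.1.1)
     invFun := fun x => ((x.2, x.1.2), x.1.1)
     map_add' := fun _ _ => rfl
     map_smul' := fun _ _ => rfl
     left_inv := fun _ => rfl
     right_inv := fun _ => rfl }, fun _ => rfl⟩

/-- Every determinant is available. -/
def Both (A : Module.End K V) : Prop := ∀ ε : K, ε ≠ 0 → Opt A ε

/-- The weaker property of a two-dimensional block. -/
def Sm (A : Module.End K V) : Prop := Opt A 2 ∧ Self A 1

theorem both_equiv {A : Module.End K V} {A' : Module.End K W} (h : EEquiv A A') (hA : Both A) : Both A' :=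
  fun ε hε => h.opt (hA ε hε)

theorem sm_equiv {A : Module.End K V} {A' : Module.End K W} (h : EEquiv A A') (hA : Sm A) : Sm A' :=
  ⟨h.opt hA.1, h.self hA.2⟩

theorem Both.sm {A : Module.End K V} (h : Both A) : Sm A := ⟨h 2 ne_zero_two, (h 1 one_ne_zero).self⟩

theorem sm_mul_sm {A : Module.End K V} {A' : Module.End K W} (h : Sm A) (h' : Sm A') : Both (A.prodMap A') := by
  intro ε hε
  rcases (show ε = 2 * 2 ∨ ε = 2 * 1 by revert ε; decide) with rfl | rfl
  · exact h.1.prod_self h'.1.self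
  · exact h.1.prod_self h'.2

theorem both_mul_self {A : Module.End K V} {A' : Module.End K W} (h : Both A) {η : K} (hη : η ≠ 0)
    (h' : Self A' η) : Both (A.prodMap A') := by
  intro ε hε
  have h1 : ε = ε * η⁻¹ * η := by rw [mul_assoc, inv_mul_cancel₀ hη, mul_one]
  rw [h1]
  exact (h _ (mul_ne_zero hε (inv_ne_zero hη))).prod_self h'

theorem sc_both : Both (sc (1 : K)) := by
  intro ε _
  refine ⟨sc ε, det_sc ε, ⟨LinearEquiv.refl K _, fun x => ?_⟩, flex_of_finrank_one _ (Module.finrank_fin_fun K)⟩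
  simp [sc]

theorem two_sm (α : K) : Sm (qd α 1) := by
  refine ⟨?_, ?_⟩
  · have hD : Flex (Matrix.toLin' (!![0, 1; 1, 0] : Matrix (Fin 2) (Fin 2) K)) :=
      flex_of_matrix !![0, 1; 1, 0] rfl (by decide +kernel)
    have h2 : (!![0, 1; 1, 0] : Matrix (Fin 2) (Fin 2) K).det = 2 := by decide +kernel
    rw [← h2, qd]
    rcases (show α = 0 ∨ α = 2 ∨ α = 1 by revert α; decide) with rfl | rfl | rfl
    · exact opt_of_cert (Z := !![2, 1; 1, 1]) (Zi := !![1, 2; 2, 2]) (by decide +kernel) (by decide +kernel) hD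
    · exact opt_of_cert (Z := !![1, 2; 0, 1]) (Zi := !![1, 1; 0, 1]) (by decide +kernel) (by decide +kernel) hD
    · exact opt_of_cert (Z := !![2, 1; 0, 1]) (Zi := !![2, 1; 0, 1]) (by decide +kernel) (by decide +kernel) hD
  · rw [qd]
    rcases (show α = 0 ∨ α = 2 ∨ α = 1 by revert α; decide) with rfl | rfl | rfl
    · rw [show (1 : K) = (!![0, 1; 2, 2] : Matrix (Fin 2) (Fin 2) K).det by decide +kernel]
      exact self_of_cert (Z := !![1, 0; 2, 1]) (Zi := !![1, 0; 1, 1]) (by decide +kernel) (by decide +kernel)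
    · rw [show (1 : K) = (!![1, 0; 2, 1] : Matrix (Fin 2) (Fin 2) K).det by decide +kernel]
      exact self_of_cert (Z := !![0, 1; 1, 0]) (Zi := !![0, 1; 1, 0]) (by decide +kernel) (by decide +kernel)
    · rw [show (1 : K) = (!![0, 1; 2, 1] : Matrix (Fin 2) (Fin 2) K).det by decide +kernel]
      exact self_of_cert (Z := !![0, 1; 1, 0]) (Zi := !![0, 1; 1, 0]) (by decide +kernel) (by decide +kernel)

theorem neg_two_both : Both ((sc (2 : K)).prodMap (sc (2 : K))) := by
  rw [sc_eq]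
  refine both_equiv (eequiv_bdiag _ _).symm fun ε hε => ?_
  rcases (show ε = 1 ∨ ε = 2 by revert ε; decide) with rfl | rfl
  · rw [show (1 : K) = (!![0, 1; 2, 0] : Matrix (Fin 2) (Fin 2) K).det by decide +kernel]
    exact opt_of_cert (Z := !![2, 0; 0, 1]) (Zi := !![2, 0; 0, 1]) (by decide +kernel) (by decide +kernel)
      (flex_of_matrix !![1, 2; 1, 1] (by decide +kernel) (by decide +kernel))
  · rw [show (2 : K) = (!![0, 1; 1, 0] : Matrix (Fin 2) (Fin 2) K).det by decide +kernel]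
    exact opt_of_cert (Z := !![2, 0; 0, 1]) (Zi := !![2, 0; 0, 1]) (by decide +kernel) (by decide +kernel)
      (flex_of_matrix !![0, 1; 1, 0] (by decide +kernel) (by decide +kernel))

theorem two_two (α β : K) (hα : α ≠ 0) (hβ : β ≠ 0) : Both ((qd α 2).prodMap (qd β 2)) := by
  have key : ∀ x y : K, x = 2 ∧ y = 2 ∨ x = 2 ∧ y = 1 ∨ x = 1 ∧ y = 1 →
      Both (Matrix.toLin' (bdiag (quad 0 x 2) (quad 0 y 2))) := by
    intro x y hxy ε hε
    rcases hxy with ⟨rfl, rfl⟩ | ⟨rfl, rfl⟩ | ⟨rfl, rfl⟩ <;>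
      rcases (show ε = 1 ∨ ε = 2 by revert ε; decide) with rfl | rfl
    · rw [show (1 : K) = (!![0, 1, 0, 2; 0, 0, 0, 1; 1, 0, 0, 0; 1, 1, 2, 0] : Matrix (Fin 4) (Fin 4) K).det by
        decide +kernel]
      exact opt_of_cert (Z := !![0, 1, 0, 0; 0, 1, 2, 1; 2, 2, 0, 1; 0, 0, 0, 1])
        (Zi := !![2, 0, 2, 1; 1, 0, 0, 0; 1, 2, 0, 1; 0, 0, 0, 1]) (by decide +kernel) (by decide +kernel)
        (flex_of_matrix !![2, 0, 0, 0; 0, 0, 2, 1; 0, 0, 2, 0; 0, 1, 2, 0] (by decide +kernel) (by decide +kernel))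
    · rw [show (2 : K) = (!![0, 2, 0, 0; 2, 0, 0, 0; 0, 0, 1, 2; 0, 0, 1, 0] : Matrix (Fin 4) (Fin 4) K).det by
        decide +kernel]
      exact opt_of_cert (Z := !![0, 0, 2, 2; 0, 0, 0, 1; 1, 2, 0, 0; 0, 1, 0, 0])
        (Zi := !![0, 0, 1, 1; 0, 0, 0, 1; 2, 2, 0, 0; 0, 1, 0, 0]) (by decide +kernel) (by decide +kernel)
        (flex_of_matrix !![0, 1, 0, 0; 1, 0, 0, 0; 0, 0, 1, 0; 0, 0, 0, 1] (by decide +kernel) (by decide +kernel))
    · rw [show (1 : K) = (!![0, 1, 0, 0; 0, 0, 2, 1; 0, 1, 0, 1; 1, 0, 0, 1] : Matrix (Fin 4) (Fin 4) K).det by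
        decide +kernel]
      exact opt_of_cert (Z := !![0, 1, 0, 0; 1, 1, 0, 1; 0, 0, 1, 0; 0, 0, 0, 1])
        (Zi := !![2, 1, 0, 2; 1, 0, 0, 0; 0, 0, 1, 0; 0, 0, 0, 1]) (by decide +kernel) (by decide +kernel)
        (flex_of_matrix !![0, 1, 0, 0; 0, 0, 2, 1; 2, 2, 2, 0; 0, 1, 2, 0] (by decide +kernel) (by decide +kernel))
    · rw [show (2 : K) = (!![2, 2, 2, 0; 2, 0, 0, 0; 0, 0, 0, 2; 2, 1, 2, 0] : Matrix (Fin 4) (Fin 4) K).det by
        decide +kernel]
      exact opt_of_cert (Z := !![0, 1, 2, 2; 2, 0, 0, 2; 2, 1, 0, 0; 1, 0, 0, 0])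
        (Zi := !![0, 0, 0, 1; 0, 0, 1, 1; 2, 1, 1, 2; 0, 2, 0, 2]) (by decide +kernel) (by decide +kernel)
        (flex_of_matrix !![0, 1, 0, 0; 2, 0, 0, 1; 2, 2, 0, 2; 0, 0, 1, 0] (by decide +kernel) (by decide +kernel))
    · rw [show (1 : K) = (!![0, 0, 2, 2; 0, 1, 2, 0; 1, 0, 0, 0; 0, 0, 2, 0] : Matrix (Fin 4) (Fin 4) K).det by
        decide +kernel]
      exact opt_of_cert (Z := !![0, 2, 0, 0; 1, 2, 0, 1; 1, 0, 2, 1; 2, 2, 1, 0])
        (Zi := !![0, 1, 2, 2; 2, 0, 0, 0; 2, 1, 2, 0; 2, 0, 1, 1]) (by decide +kernel) (by decide +kernel)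
        (flex_of_matrix !![0, 0, 2, 0; 1, 1, 1, 0; 0, 0, 0, 1; 1, 0, 0, 2] (by decide +kernel) (by decide +kernel))
    · rw [show (2 : K) = (!![0, 0, 1, 1; 1, 2, 1, 1; 2, 0, 0, 0; 0, 0, 1, 2] : Matrix (Fin 4) (Fin 4) K).det by
        decide +kernel]
      exact opt_of_cert (Z := !![0, 0, 2, 0; 1, 0, 2, 2; 2, 2, 0, 2; 0, 1, 0, 0])
        (Zi := !![1, 2, 1, 1; 0, 0, 0, 1; 2, 0, 0, 0; 2, 1, 1, 1]) (by decide +kernel) (by decide +kernel)
        (flex_of_matrix !![2, 0, 0, 0; 1, 1, 0, 0; 0, 0, 2, 0; 0, 0, 0, 2] (by decide +kernel) (by decide +kernel))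
  rcases (show α = 2 ∧ β = 2 ∨ α = 2 ∧ β = 1 ∨ α = 1 ∧ β = 2 ∨ α = 1 ∧ β = 1 by revert α β; decide) with
    ⟨rfl, rfl⟩ | ⟨rfl, rfl⟩ | ⟨rfl, rfl⟩ | ⟨rfl, rfl⟩
  · exact both_equiv (eequiv_bdiag _ _).symm (key _ _ (Or.inl ⟨rfl, rfl⟩))
  · exact both_equiv (eequiv_bdiag _ _).symm (key _ _ (Or.inr (Or.inl ⟨rfl, rfl⟩)))
  · exact both_equiv ((eequiv_bdiag _ _).symm.trans (EEquiv.prod_comm _ _)) (key 2 1 (Or.inr (Or.inl ⟨rfl, rfl⟩)))
  · exact both_equiv (eequiv_bdiag _ _).symm (key _ _ (Or.inr (Or.inr ⟨rfl, rfl⟩)))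

theorem two_move (α : K) (hα : α ≠ 0) : Move (qd α 2) (qd α 2) (qd 0 1) := by
  refine ⟨qd α 2, EEquiv.refl _, ?_⟩
  rw [qd, qd, mul_toLin']
  rcases (show α = 1 ∨ α = 2 by revert α; decide) with rfl | rfl
  · exact eequiv_of_matrix (Z := !![2, 2; 0, 1]) (Zi := !![2, 2; 0, 1]) (by decide +kernel) (by decide +kernel)
  · exact eequiv_of_matrix (Z := !![1, 1; 0, 1]) (Zi := !![1, 2; 0, 1]) (by decide +kernel) (by decide +kernel)

theorem two_inv (α : K) (hα : α ≠ 0) :
    Move (qd α 2) (qd (-α) 2) ((sc (1 : K)).prodMap (sc (1 : K))) := by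
  refine ⟨Matrix.toLin' (quad α (-α) 2), (cyc_quad α (-α) 2).eequiv (cyc_qd (-α) 2), ?_⟩
  rw [qd, mul_toLin', sc_eq]
  refine EEquiv.trans ?_ (eequiv_bdiag _ _).symm
  rcases (show α = 1 ∨ α = 2 by revert α; decide) with rfl | rfl <;>
    exact eequiv_of_matrix (Z := 1) (Zi := 1) (by decide +kernel) (by decide +kernel)

theorem no_root_two : ∀ x α : K, x ≠ 0 → α ≠ 0 → x ^ 2 + α * x + 2 ≠ 0 := by decide

theorem quad_pair_two : ∀ α : K, α ≠ 0 →
    -α ≠ α ∧ ((2 - 2) / (-α - α)) ^ 2 + α * ((2 - 2) / (-α - α)) + 2 ≠ 0 := by decide +kernel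

theorem two_big {α : K} (hα : α ≠ 0) {a : ℕ} (ha : 3 ≤ a) {A : Module.End K (Fin a → K)} {f : K[X]}
    {v : Fin a → K} (hA : Cyc A f v) (hdet : LinearMap.det A = 2) : Both ((qd α 2).prodMap A) := by
  have hco : ∀ x : K, x ≠ 0 → ∀ r : ℕ, IsCoprime ((X - C x) ^ r) (qpoly α 2) := fun x hx r =>
    (coprime_lin_quad (by revert α x; decide)).pow_left
  have hco1 : ∀ x : K, x ≠ 0 → ∀ r : ℕ, IsCoprime ((X - C x) ^ r) (qpoly (0 : K) 1) := fun x hx r =>
    (coprime_lin_quad (by revert x; decide)).pow_left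
  obtain ⟨k, rfl⟩ : ∃ k, a = k + 2 := ⟨a - 2, by omega⟩
  have key : ∀ x : K, x ≠ 0 → Opt ((qd α 2).prodMap A) (2 * x ^ k) := by
    intro x hx
    obtain ⟨B, hB, hAB⟩ := move_big hA (k := k) (by omega) (Module.finrank_fin_fun K) (T := jmat x k)
      (jmat_upper x k) (fun i => by simp [jmat, hx]) (α := 0) (γ := 1) (aeval_jd x k) (hco1 x hx k)
      ((cyc_jd x k).prod (cyc_qd α 2) (hco x hx k))
      (by rw [Module.finrank_prod, Module.finrank_fin_fun, Module.finrank_fin_fun])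
      (by rw [hdet, prod_diag_jmat, LinearMap.det_prodMap, det_jd, det_qd]; ring)
    have hA' : Move A ((qd (0 : K) 1).prodMap (jd x k)) ((qd α 2).prodMap (jd x k)) :=
      ⟨B, hB.trans (EEquiv.prod_comm _ _), hAB.trans (EEquiv.prod_comm _ _)⟩
    obtain ⟨B₁, hB₁, hAB₁⟩ := two_move α hα
    obtain ⟨B₂, hB₂, hAB₂⟩ := hA'
    let S := (qd α 2).prodMap ((qd (0 : K) 1).prodMap (jd x k))
    refine Move.opt (S := S) ⟨B₁.prodMap B₂, hB₁.prodMap hB₂, ?_⟩ ?_ ((flex_qd α 2 (Or.inl rfl)).prod_left _)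
    · rw [prodMap_mul']
      refine (hAB₁.prodMap hAB₂).trans ?_
      exact ((EEquiv.prod_assoc _ _ _).symm.trans ((EEquiv.prod_comm _ _).prodMap (EEquiv.refl _))).trans
        (EEquiv.prod_assoc _ _ _)
    · simp only [S, LinearMap.det_prodMap, det_qd, det_jd]
      ring
  intro ε hε
  rcases (show ε = 1 ∨ ε = 2 by revert ε; decide) with rfl | rfl
  swap
  · have h := key 1 one_ne_zero
    rwa [one_pow, mul_one] at h
  rcases (show k = 1 ∨ 2 ≤ k by omega) with rfl | hk
  · have h := key 2 ne_zero_two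
    rwa [show (2 : K) * 2 ^ 1 = 1 by decide] at h
  obtain ⟨r, rfl⟩ : ∃ r, k = r + 2 := ⟨k - 2, by omega⟩
  let T : Matrix (Fin (r + 2)) (Fin (r + 2)) K := blk 1 0 0 (blk 1 0 0 (jmat 1 r))
  have hTeq : EEquiv (Matrix.toLin' T) (((sc (1 : K)).prodMap (sc (1 : K))).prodMap (jd 1 r)) :=
    (toLin_blk 1 _).trans (((EEquiv.refl _).prodMap (toLin_blk_jmat 1 1 r)).trans (EEquiv.prod_assoc _ _ _).symm)
  have hrT : aeval (Matrix.toLin' T) ((X - C (1 : K)) ^ (r + 1)) = 0 := by
    obtain ⟨φ, hφ⟩ := hTeq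
    refine LinearMap.ext fun x => φ.injective ?_
    have h := map_aeval (φ : (Fin (r + 2) → K) →ₗ[K] ((Fin 1 → K) × (Fin 1 → K)) × (Fin r → K)) hφ
      ((X - C (1 : K)) ^ (r + 1)) x
    rw [LinearEquiv.coe_coe] at h
    rw [h, LinearMap.zero_apply, map_zero]
    refine Prod.ext ?_ ?_
    · have h1 := map_aeval (LinearMap.fst K _ (Fin r → K))
        (T := ((sc (1 : K)).prodMap (sc (1 : K))).prodMap (jd 1 r))
        (S := (sc (1 : K)).prodMap (sc (1 : K))) (fun _ => rfl) ((X - C (1 : K)) ^ (r + 1)) (φ x)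
      rw [LinearMap.fst_apply] at h1
      rw [h1, pow_succ, map_mul, Module.End.mul_apply]
      simp [sc]
    · have h1 := map_aeval (LinearMap.snd K _ (Fin r → K))
        (T := ((sc (1 : K)).prodMap (sc (1 : K))).prodMap (jd 1 r))
        (S := jd (1 : K) r) (fun _ => rfl) ((X - C (1 : K)) ^ (r + 1)) (φ x)
      rw [LinearMap.snd_apply] at h1
      rw [h1, pow_succ', map_mul, Module.End.mul_apply, aeval_jd]
      simp
  have hnα : -α ≠ 0 := neg_ne_zero.2 hα
  have hcoq : IsCoprime (qpoly (-α) (2 : K)) (qpoly α 2) :=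
    coprime_quad_quad (quad_pair_two α hα).1 (quad_pair_two α hα).2
  have hcon : IsCoprime ((X - C (1 : K)) ^ r) (qpoly (-α) (2 : K)) :=
    (coprime_lin_quad (no_root_two 1 (-α) one_ne_zero hnα)).pow_left
  obtain ⟨B, hB, hAB⟩ := move_big hA (k := r + 2) (by omega) (Module.finrank_fin_fun K) (T := T)
    (blk_upper 1 (blk_upper 1 (jmat_upper 1 r))) (fun i => by
      induction i using Fin.cases with
      | zero => simp [T]
      | succ i => induction i using Fin.cases <;> (simp only [T, blk_ss, blk_00]; simp [jmat])) (α := α) (γ := 2) hrT (hco 1 one_ne_zero (r + 1))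
    ((cyc_qd (-α) (2 : K)).prod ((cyc_jd (1 : K) r).prod (cyc_qd α 2) (hco 1 one_ne_zero r))
      (hcon.symm.mul_right hcoq))
    (by simp only [Module.finrank_prod, Module.finrank_fin_fun]; omega)
    (by rw [hdet, prod_diag_blk, prod_diag_blk, prod_diag_jmat, LinearMap.det_prodMap, LinearMap.det_prodMap,
          det_qd, det_jd, det_qd]; ring)
  have hA' : Move A (((sc (1 : K)).prodMap (sc (1 : K))).prodMap ((jd (1 : K) r).prodMap (qd α 2)))
      ((qd (-α) (2 : K)).prodMap ((jd (1 : K) r).prodMap (qd α 2))) :=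
    ⟨B, hB.trans ((hTeq.prodMap (EEquiv.refl _)).trans (EEquiv.prod_assoc _ _ _)), hAB⟩
  obtain ⟨B₁, hB₁, hAB₁⟩ := two_inv α hα
  obtain ⟨B₂, hB₂, hAB₂⟩ := hA'
  let S := (qd (-α) (2 : K)).prodMap
    (((sc (1 : K)).prodMap (sc (1 : K))).prodMap ((jd (1 : K) r).prodMap (qd α 2)))
  refine Move.opt (S := S) ⟨B₁.prodMap B₂, hB₁.prodMap hB₂, ?_⟩ ?_ ((flex_qd (-α) 2 (Or.inl rfl)).prod_left _)
  · rw [prodMap_mul']
    refine (hAB₁.prodMap hAB₂).trans ?_
    exact ((EEquiv.prod_assoc _ _ _).symm.trans ((EEquiv.prod_comm _ _).prodMap (EEquiv.refl _))).trans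
      (EEquiv.prod_assoc _ _ _)
  · simp only [S, LinearMap.det_prodMap, det_sc, det_qd, det_jd]
    rw [one_pow, one_mul, one_mul, one_mul]
    decide

theorem big_big {a b : ℕ} (ha : 3 ≤ a) (hb : 3 ≤ b) {A : Module.End K (Fin a → K)} {B : Module.End K (Fin b → K)}
    {f g : K[X]} {v : Fin a → K} {w : Fin b → K} (hA : Cyc A f v) (hB : Cyc B g w) (hdA : LinearMap.det A = 2)
    (hdB : LinearMap.det B = 2) : Both (A.prodMap B) := by
  intro ε hε
  set γ : K := -ε * ((-1 : K) ^ (b - 3))⁻¹ with hγ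
  have hγ0 : γ ≠ 0 := mul_ne_zero (neg_ne_zero.2 hε) (inv_ne_zero (pow_ne_zero _ (by decide)))
  obtain ⟨B₁, h₁, h₁'⟩ := half ha hA hdA 1 one_ne_zero 1 one_ne_zero
  obtain ⟨B₂, h₂, h₂'⟩ := half hb hB hdB (-1) (by decide) γ hγ0
  refine Move.opt ⟨B₁.prodMap B₂, h₁.prodMap h₂, ?_⟩ ?_
    (((flex_of_finrank_one (sc (1 : K)) (Module.finrank_fin_fun K)).prod_left _).prod_left _)
  · rw [prodMap_mul']
    refine (h₁'.prodMap h₂').trans ?_
    rw [neg_neg]
    exact swap _ _ _ _
  · simp only [LinearMap.det_prodMap, det_sc, det_jd, det_qd]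
    have hp : (-1 : K) ^ (b - 3) ≠ 0 := pow_ne_zero _ (by decide)
    rw [hγ]
    field_simp
    ring

theorem big_neg {a : ℕ} (ha : 3 ≤ a) {A : Module.End K (Fin a → K)} {f : K[X]} {v : Fin a → K} (hA : Cyc A f v)
    (hdA : LinearMap.det A = 2) : Both (A.prodMap (sc (2 : K))) := by
  intro ε hε
  obtain ⟨B₁, h₁, h₁'⟩ := half ha hA hdA 1 one_ne_zero (-ε) (neg_ne_zero.2 hε)
  obtain ⟨B₂, h₂, h₂'⟩ := move_neg_one (-1)
  refine Move.opt ⟨B₁.prodMap B₂, h₁.prodMap h₂, ?_⟩ ?_
    (Flex.prod_right _ (flex_of_finrank_one (sc (-1 : K)) (Module.finrank_fin_fun K)))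
  · rw [prodMap_mul']
    refine (h₁'.prodMap h₂').trans ?_
    rw [neg_neg]
    exact swap_one _ _ _
  · simp only [LinearMap.det_prodMap, det_sc, det_jd, det_qd, one_pow]
    ring

/-- A two-dimensional cyclic block is diagonal or has no eigenvalue. -/
theorem two_split : EEquiv (qd (0 : K) 2) ((sc (1 : K)).prodMap (sc (2 : K))) := by
  rw [qd, sc_eq, sc_eq]
  exact (eequiv_of_matrix (N := bdiag (Matrix.of fun _ _ : Fin 1 => (1 : K)) (Matrix.of fun _ _ : Fin 1 => (2 : K)))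
    (Z := !![1, 2; 1, 1]) (Zi := !![2, 2; 1, 2]) (by decide +kernel) (by decide +kernel)).trans
    (eequiv_bdiag _ _).symm

theorem neg_pair {b : ℕ} (hb : 0 < b) {B : Module.End K (Fin b → K)} {g : K[X]} {w : Fin b → K} (hB : Cyc B g w)
    (hdB : LinearMap.det B = 2) : Both ((sc (2 : K)).prodMap B) := by
  rcases (show b = 1 ∨ b = 2 ∨ 3 ≤ b by omega) with hb1 | hb2 | hb3
  · have h := eequiv_sc_of_finrank_one hb1 hB
    rw [hdB] at h
    exact both_equiv ((EEquiv.refl _).prodMap h.symm) neg_two_both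
  · obtain ⟨β, h⟩ := eequiv_qd_of_finrank_two hb2 hB
    rw [hdB] at h
    refine both_equiv ((EEquiv.refl _).prodMap h.symm) ?_
    by_cases hβ : β = 0
    · subst hβ
      refine both_equiv (((EEquiv.refl _).prodMap two_split.symm)) ?_
      refine both_equiv (EEquiv.symm ?_) (both_mul_self neg_two_both one_ne_zero (sc_both 1 one_ne_zero).self)
      exact ((EEquiv.refl _).prodMap (EEquiv.prod_comm _ _)).trans (EEquiv.prod_assoc _ _ _).symm
    · have hc := (cyc_sc (2 : K)).prod (cyc_qd β (2 : K)) (coprime_lin_quad (no_root_two 2 β ne_zero_two hβ))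
      obtain ⟨e⟩ : Nonempty (((Fin 1 → K) × (Fin 2 → K)) ≃ₗ[K] (Fin 3 → K)) :=
        FiniteDimensional.nonempty_linearEquiv_of_finrank_eq (by
          rw [Module.finrank_prod, Module.finrank_fin_fun, Module.finrank_fin_fun, Module.finrank_fin_fun])
      let A' : Module.End K (Fin 3 → K) :=
        (e : _ →ₗ[K] (Fin 3 → K)) ∘ₗ ((sc (2 : K)).prodMap (qd β 2)) ∘ₗ (e.symm : (Fin 3 → K) →ₗ[K] _)
      have he : EEquiv ((sc (2 : K)).prodMap (qd β 2)) A' := ⟨e, fun x => by simp [A']⟩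
      refine both_equiv he.symm (big_one le_rfl (hc.map e (fun x => by simp [A'])) ?_)
      rw [← he.det, LinearMap.det_prodMap, det_sc, det_qd]
      decide
  · exact both_equiv (EEquiv.prod_comm _ _) (big_neg hb3 hB hdB)

theorem pair {a b : ℕ} (ha : 0 < a) (hb : 0 < b) {A : Module.End K (Fin a → K)} {B : Module.End K (Fin b → K)}
    {f g : K[X]} {v : Fin a → K} {w : Fin b → K} (hA : Cyc A f v) (hB : Cyc B g w) (hdA : LinearMap.det A = 2)
    (hdB : LinearMap.det B = 2) : Both (A.prodMap B) := by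
  rcases (show a = 1 ∨ a = 2 ∨ 3 ≤ a by omega) with ha1 | ha2 | ha3
  · have h := eequiv_sc_of_finrank_one ha1 hA
    rw [hdA] at h
    exact both_equiv (h.symm.prodMap (EEquiv.refl _)) (neg_pair hb hB hdB)
  · obtain ⟨α, h⟩ := eequiv_qd_of_finrank_two ha2 hA
    rw [hdA] at h
    refine both_equiv (h.symm.prodMap (EEquiv.refl _)) ?_
    by_cases hα : α = 0
    · subst hα
      refine both_equiv ((two_split.symm).prodMap (EEquiv.refl _)) ?_
      refine both_equiv (EEquiv.symm ((EEquiv.prod_assoc _ _ _).trans (EEquiv.prod_comm _ _)))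
        (both_mul_self (neg_pair hb hB hdB) one_ne_zero (sc_both 1 one_ne_zero).self)
    rcases (show b = 1 ∨ b = 2 ∨ 3 ≤ b by omega) with hb1 | hb2 | hb3
    · have h' := eequiv_sc_of_finrank_one hb1 hB
      rw [hdB] at h'
      refine both_equiv ((EEquiv.refl _).prodMap h'.symm) (both_equiv (EEquiv.prod_comm _ _) ?_)
      exact neg_pair two_pos (cyc_qd α (2 : K)) (det_qd α 2)
    · obtain ⟨β, h'⟩ := eequiv_qd_of_finrank_two hb2 hB
      rw [hdB] at h'
      refine both_equiv ((EEquiv.refl _).prodMap h'.symm) ?_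
      by_cases hβ : β = 0
      · subst hβ
        refine both_equiv ((EEquiv.refl _).prodMap two_split.symm) ?_
        refine both_equiv (EEquiv.symm (((EEquiv.refl _).prodMap (EEquiv.prod_comm _ _)).trans
          (EEquiv.prod_assoc _ _ _).symm)) (both_mul_self ?_ one_ne_zero (sc_both 1 one_ne_zero).self)
        exact both_equiv (EEquiv.prod_comm _ _) (neg_pair two_pos (cyc_qd α (2 : K)) (det_qd α 2))
      · exact two_two α β hα hβ
    · exact two_big hα hb3 hB hdB
  · rcases (show b = 1 ∨ b = 2 ∨ 3 ≤ b by omega) with hb1 | hb2 | hb3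
    · have h' := eequiv_sc_of_finrank_one hb1 hB
      rw [hdB] at h'
      exact both_equiv ((EEquiv.refl _).prodMap h'.symm) (big_neg ha3 hA hdA)
    · obtain ⟨β, h'⟩ := eequiv_qd_of_finrank_two hb2 hB
      rw [hdB] at h'
      refine both_equiv ((EEquiv.refl _).prodMap h'.symm) (both_equiv (EEquiv.prod_comm _ _) ?_)
      by_cases hβ : β = 0
      · subst hβ
        refine both_equiv ((two_split.symm).prodMap (EEquiv.refl _)) ?_
        exact both_equiv (EEquiv.symm ((EEquiv.prod_assoc _ _ _).trans (EEquiv.prod_comm _ _)))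
          (both_mul_self (neg_pair (by omega) hA hdA) one_ne_zero (sc_both 1 one_ne_zero).self)
      · exact two_big hβ ha3 hA hdA
    · exact big_big ha3 hb3 hA hB hdA hdB

/-- Determinant one. -/
def Done (n : ℕ) (A : Module.End K (Fin n → K)) : Prop := n = 0 ∨ Both A ∨ n = 2 ∧ Sm A

theorem done_block {a : ℕ} (ha : 0 < a) {A : Module.End K (Fin a → K)} {f : K[X]} {v : Fin a → K}
    (hA : Cyc A f v) (hd : LinearMap.det A = 1) : Both A ∨ a = 2 ∧ Sm A := by
  rcases (show a = 1 ∨ a = 2 ∨ 3 ≤ a by omega) with ha1 | ha2 | ha3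
  · have h := eequiv_sc_of_finrank_one ha1 hA
    rw [hd] at h
    exact Or.inl (both_equiv h.symm sc_both)
  · obtain ⟨α, h⟩ := eequiv_qd_of_finrank_two ha2 hA
    rw [hd] at h
    exact Or.inr ⟨ha2, sm_equiv h.symm (two_sm α)⟩
  · exact Or.inl (fun ε hε => big_one ha3 hA hd ε hε)

theorem eequiv_drop {W' : Type} [AddCommGroup W'] [Module K W'] [FiniteDimensional K W'] (C : Module.End K V)
    (R : Module.End K W') (h : finrank K W' = 0) : EEquiv (C.prodMap R) C := by
  haveI := Module.finrank_zero_iff.1 h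
  haveI : Unique W' := uniqueOfSubsingleton 0
  exact ⟨LinearEquiv.prodUnique (M₂ := W') |>.trans (LinearEquiv.refl K V), fun x => rfl⟩

theorem done_combine {a b n : ℕ} (ha : 0 < a) (hab : a + b = n) {T : Module.End K (Fin n → K)}
    {C : Module.End K (Fin a → K)} {R : Module.End K (Fin b → K)} (he : EEquiv T (C.prodMap R))
    (hC : Both C ∨ a = 2 ∧ Sm C) (hR : Done b R) : Done n T := by
  rcases hR with hb | hR | ⟨hb, hR⟩
  · have h := he.trans (eequiv_drop C R (by rw [Module.finrank_fin_fun, hb]))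
    rcases hC with hC | ⟨ha2, hC⟩
    · exact Or.inr (Or.inl (both_equiv h.symm hC))
    · exact Or.inr (Or.inr ⟨by omega, sm_equiv h.symm hC⟩)
  · refine Or.inr (Or.inl (both_equiv he.symm ?_))
    rcases hC with hC | ⟨-, hC⟩
    · exact both_mul_self hC one_ne_zero (hR 1 one_ne_zero).self
    · exact sm_mul_sm hC hR.sm
  · refine Or.inr (Or.inl (both_equiv he.symm ?_))
    rcases hC with hC | ⟨-, hC⟩
    · exact both_mul_self hC one_ne_zero hR.2
    · exact sm_mul_sm hC hR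

theorem main : ∀ (n : ℕ) (T : Module.End K (Fin n → K)),
    (LinearMap.det T = 1 → Done n T) ∧
    (LinearMap.det T = 2 → ∃ (a b : ℕ) (C : Module.End K (Fin a → K)) (R : Module.End K (Fin b → K))
      (v : Fin a → K), 0 < a ∧ a + b = n ∧ EEquiv T (C.prodMap R) ∧ Cyc C C.charpoly v ∧ LinearMap.det C = 2 ∧
        Done b R) := by
  intro n
  induction n using Nat.strong_induction_on with
  | _ n ih =>
    intro T
    rcases Nat.eq_zero_or_pos n with rfl | hn
    · refine ⟨fun _ => Or.inl rfl, fun h => ?_⟩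
      have h1 : LinearMap.det T = 1 := LinearMap.det_eq_one_of_finrank_eq_zero (Module.finrank_fin_fun K) T
      rw [h1] at h
      exact absurd h (by decide)
    obtain ⟨a, b, C, R, v, ha, hab, he, hv⟩ := exists_cyclic_summand hn T
    have hdet : LinearMap.det T = LinearMap.det C * LinearMap.det R := by rw [he.det, LinearMap.det_prodMap]
    obtain ⟨ih1, ih2⟩ := ih b (by omega) R
    refine ⟨fun h => ?_, fun h => ?_⟩
    · rw [hdet] at h
      rcases (show LinearMap.det C = 1 ∧ LinearMap.det R = 1 ∨ LinearMap.det C = 2 ∧ LinearMap.det R = 2 by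
        generalize LinearMap.det C = x at h ⊢; generalize LinearMap.det R = y at h ⊢; revert x y; decide) with
        ⟨hC, hR⟩ | ⟨hC, hR⟩
      · exact done_combine ha hab he (done_block ha hv hC) (ih1 hR)
      · obtain ⟨a', b', C', R', v', ha', hab', he', hv', hC', hdone⟩ := ih2 hR
        have hp := pair ha ha' hv hv' hC hC'
        have h1 : EEquiv T ((C.prodMap C').prodMap R') :=
          he.trans (((EEquiv.refl C).prodMap he').trans (EEquiv.prod_assoc _ _ _).symm)
        obtain ⟨φ⟩ : Nonempty (((Fin a → K) × (Fin a' → K)) ≃ₗ[K] (Fin (a + a') → K)) :=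
          FiniteDimensional.nonempty_linearEquiv_of_finrank_eq (by
            rw [Module.finrank_prod, Module.finrank_fin_fun, Module.finrank_fin_fun, Module.finrank_fin_fun])
        let P : Module.End K (Fin (a + a') → K) :=
          (φ : _ →ₗ[K] (Fin (a + a') → K)) ∘ₗ (C.prodMap C') ∘ₗ (φ.symm : (Fin (a + a') → K) →ₗ[K] _)
        have hP : EEquiv (C.prodMap C') P := ⟨φ, fun x => by simp [P]⟩
        exact done_combine (by omega) (by omega) (h1.trans (hP.prodMap (EEquiv.refl _)))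
          (Or.inl (both_equiv hP hp)) hdone
    · rw [hdet] at h
      rcases (show LinearMap.det C = 2 ∧ LinearMap.det R = 1 ∨ LinearMap.det C = 1 ∧ LinearMap.det R = 2 by
        generalize LinearMap.det C = x at h ⊢; generalize LinearMap.det R = y at h ⊢; revert x y; decide) with
        ⟨hC, hR⟩ | ⟨hC, hR⟩
      · exact ⟨a, b, C, R, v, ha, hab, he, hv, hC, ih1 hR⟩
      · obtain ⟨a', b', C', R', v', ha', hab', he', hv', hC', hdone⟩ := ih2 hR
        obtain ⟨φ⟩ : Nonempty (((Fin a → K) × (Fin b' → K)) ≃ₗ[K] (Fin (a + b') → K)) :=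
          FiniteDimensional.nonempty_linearEquiv_of_finrank_eq (by
            rw [Module.finrank_prod, Module.finrank_fin_fun, Module.finrank_fin_fun, Module.finrank_fin_fun])
        let Q : Module.End K (Fin (a + b') → K) :=
          (φ : _ →ₗ[K] (Fin (a + b') → K)) ∘ₗ (C.prodMap R') ∘ₗ (φ.symm : (Fin (a + b') → K) →ₗ[K] _)
        have hQ : EEquiv (C.prodMap R') Q := ⟨φ, fun x => by simp [Q]⟩
        have h1 : EEquiv T (C'.prodMap Q) := by
          refine he.trans (((EEquiv.refl C).prodMap he').trans ?_)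
          refine (EEquiv.prod_assoc _ _ _).symm.trans ?_
          refine ((EEquiv.prod_comm _ _).prodMap (EEquiv.refl _)).trans ?_
          exact (EEquiv.prod_assoc _ _ _).trans ((EEquiv.refl C').prodMap hQ)
        exact ⟨a', a + b', C', Q, v', ha', by omega, h1, hv', hC',
          done_combine ha rfl hQ.symm (done_block ha hv hC) hdone⟩

/-- The result for the field with three elements. -/
theorem commE {n : ℕ} (hn : 3 ≤ n) {T : Module.End K (Fin n → K)} (hT : LinearMap.det T = 1) : CommE T := by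
  rcases (main n T).1 hT with h | h | ⟨h, -⟩
  · omega
  · exact (h 1 one_ne_zero).commE
  · omega

end Cfsg.Agent.Lib.Sourour.Small.Three
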