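import Cfsg.Agent.Lib.Sourour.Small.Cert

/-!
Every element of `SL_n(2)`, `n ≥ 3`, is a commutator.
-/

set_option autoImplicit false

namespace Cfsg.Agent.Lib.Sourour.Small.Two

open Polynomial Module

/-- The field with two elements. -/
abbrev K := ZMod 2

variable {V W : Type} [AddCommGroup V] [Module K V] [FiniteDimensional K V] [AddCommGroup W] [Module K W]
  [FiniteDimensional K W]

theorem eq_one_of_ne_zero : ∀ t : K, t ≠ 0 → t = 1 := by decide

theorem flex (B : Module.End K V) : Flex B := fun t ht =>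
  ⟨1, Commute.one_left B, by rw [map_one, eq_one_of_ne_zero t ht]⟩

theorem opt_of_self {A : Module.End K V} (h : Self A 1) : Opt A 1 := by
  obtain ⟨B, hB, hAB⟩ := h
  exact ⟨B, hB, hAB, flex B⟩

/-- A transvection in normal form. -/
noncomputable abbrev J : Module.End K (Fin 2 → K) := qd (0 : K) 1

/-- The transvection matrix. -/
def J' : Matrix (Fin 2) (Fin 2) K := !![1, 1; 0, 1]

theorem J_eq : EEquiv J (Matrix.toLin' J') :=
  eequiv_of_matrix (Z := !![1, 0; 1, 1]) (Zi := !![1, 0; 1, 1]) (by decide +kernel) (by decide +kernel)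

/-- A block that takes care of itself and of one transvection. -/
def Absorb (A : Module.End K V) : Prop := Self A 1 ∧ Self (J.prodMap A) 1

theorem absorb_equiv {A : Module.End K V} {A' : Module.End K W} (h : EEquiv A A') (hA : Absorb A) : Absorb A' :=
  ⟨h.self hA.1, ((EEquiv.refl J).prodMap h).self hA.2⟩

/-- Either a transvection of the plane, or absorbing. -/
def Good (A : Module.End K V) : Prop := EEquiv A J ∨ Absorb A

theorem good_equiv {A : Module.End K V} {A' : Module.End K W} (h : EEquiv A A') (hA : Good A) : Good A' :=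
  hA.imp (fun hJ => h.symm.trans hJ) (absorb_equiv h)

theorem self_mul {A : Module.End K V} {A' : Module.End K W} (h : Self A 1) (h' : Self A' 1) :
    Self (A.prodMap A') 1 := one_mul (1 : K) ▸ h.prod h'

theorem absorb_sc : Absorb (sc (1 : K)) := by
  refine ⟨⟨sc 1, det_sc 1, LinearEquiv.refl K _, fun x => by simp [sc]⟩, ?_⟩
  refine EEquiv.self ((J_eq.prodMap (EEquiv.refl (sc (1 : K))))).symm ?_
  rw [sc_eq]
  refine EEquiv.self (eequiv_bdiag J' (Matrix.of fun _ _ : Fin 1 => (1 : K))).symm ?_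
  rw [show (1 : K) = (!![0, 0, 1; 0, 1, 0; 1, 0, 1] : Matrix (Fin 3) (Fin 3) K).det by decide +kernel]
  exact self_of_cert (Z := !![1, 0, 0; 0, 1, 0; 0, 1, 1]) (Zi := !![1, 0, 0; 0, 1, 0; 0, 1, 1])
    (by decide +kernel) (by decide +kernel)

theorem absorb_omega : Absorb (qd (1 : K) 1) := by
  refine ⟨?_, EEquiv.self (J_eq.prodMap (EEquiv.refl (qd (1 : K) 1))).symm ?_⟩
  · rw [qd]
    rw [show (1 : K) = (!![0, 1; 1, 0] : Matrix (Fin 2) (Fin 2) K).det by decide +kernel]
    exact self_of_cert (Z := !![1, 1; 0, 1]) (Zi := !![1, 1; 0, 1]) (by decide +kernel) (by decide +kernel)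
  · rw [qd]
    refine EEquiv.self (eequiv_bdiag J' (quad (0 : K) 1 1)).symm ?_
    rw [show (1 : K) = (!![0, 0, 1, 1; 1, 0, 1, 0; 1, 1, 1, 0; 0, 0, 0, 1] : Matrix (Fin 4) (Fin 4) K).det by
      decide +kernel]
    exact self_of_cert (Z := !![0, 1, 1, 0; 0, 0, 1, 1; 1, 0, 0, 1; 0, 0, 1, 0])
      (Zi := !![0, 1, 1, 1; 1, 0, 0, 1; 0, 0, 0, 1; 0, 1, 0, 1]) (by decide +kernel) (by decide +kernel)

theorem self_JJ : Self (J.prodMap J) 1 := by
  refine EEquiv.self (J_eq.prodMap J_eq).symm (EEquiv.self (eequiv_bdiag J' J').symm ?_)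
  rw [show (1 : K) = (!![0, 0, 1, 0; 0, 0, 0, 1; 1, 1, 1, 1; 0, 1, 0, 1] : Matrix (Fin 4) (Fin 4) K).det by
    decide +kernel]
  exact self_of_cert (Z := !![1, 0, 1, 0; 0, 0, 0, 1; 1, 0, 0, 0; 0, 1, 0, 1])
    (Zi := !![0, 0, 1, 0; 0, 1, 0, 1; 1, 0, 1, 0; 0, 1, 0, 0]) (by decide +kernel) (by decide +kernel)

theorem self_JJJ : Self (J.prodMap (J.prodMap J)) 1 := by
  refine EEquiv.self (J_eq.prodMap (J_eq.prodMap J_eq)).symm ?_
  refine EEquiv.self ((EEquiv.refl (Matrix.toLin' J')).prodMap (eequiv_bdiag J' J')).symm ?_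
  refine EEquiv.self (eequiv_bdiag J' (bdiag J' J')).symm ?_
  rw [show (1 : K) = (!![0, 1, 1, 1, 1, 1; 0, 1, 0, 0, 1, 0; 1, 1, 1, 0, 0, 0; 1, 0, 0, 0, 0, 0; 0, 0, 1, 0, 0, 1;
    0, 1, 1, 1, 0, 1] : Matrix (Fin 6) (Fin 6) K).det by decide +kernel]
  exact self_of_cert
    (Z := !![1, 0, 0, 0, 0, 0; 1, 0, 0, 0, 1, 1; 1, 0, 0, 0, 0, 1; 0, 0, 0, 1, 0, 0; 1, 0, 1, 0, 0, 0;
      1, 1, 1, 0, 1, 0])
    (Zi := !![1, 0, 0, 0, 0, 0; 0, 1, 1, 0, 1, 1; 1, 0, 0, 0, 1, 0; 0, 0, 0, 1, 0, 0; 0, 1, 1, 0, 0, 0;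
      1, 0, 1, 0, 0, 0]) (by decide +kernel) (by decide +kernel)

theorem co_omega (r : ℕ) : IsCoprime ((X - C (1 : K)) ^ r) (qpoly (1 : K) 1) :=
  (coprime_lin_quad (by decide)).pow_left

theorem qpoly_zero_one : qpoly (0 : K) 1 = (X - C (1 : K)) ^ 2 := by
  have h : (2 : K[X]) = 0 := by
    rw [← Polynomial.C_ofNat, show (2 : K) = 0 by decide, C_0]
  rw [qpoly, map_zero, zero_mul, add_zero, C_1]
  linear_combination X * h

/-- A cyclic block of size at least three absorbs. -/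
theorem absorb_big {a : ℕ} (ha : 3 ≤ a) {A : Module.End K (Fin a → K)} {f : K[X]} {v : Fin a → K}
    (hA : Cyc A f v) (hdet : LinearMap.det A = 1) : Absorb A := by
  obtain ⟨k, rfl⟩ : ∃ k, a = k + 2 := ⟨a - 2, by omega⟩
  have hco := co_omega
  have hdim : finrank K ((Fin k → K) × (Fin 2 → K)) = k + 2 := by
    simp only [Module.finrank_prod, Module.finrank_fin_fun]
  refine ⟨?_, ?_⟩
  · obtain ⟨B, hB, hAB⟩ := move_big hA (k := k) (by omega) (Module.finrank_fin_fun K) (T := jmat (1 : K) k)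
      (jmat_upper 1 k) (fun i => by simp [jmat]) (α := 1) (γ := 1) (aeval_jd 1 k) (hco k)
      ((cyc_jd (1 : K) k).prod (cyc_qd (1 : K) 1) (hco k)) hdim
      (by rw [hdet, prod_diag_jmat, LinearMap.det_prodMap, det_jd, det_qd]; ring)
    refine Move.self (S := (jd (1 : K) k).prodMap (qd (1 : K) 1)) ⟨B, hB, hAB⟩ ?_
    rw [LinearMap.det_prodMap, det_jd, det_qd, one_pow, one_mul]
  · obtain ⟨B₂, hB₂, hAB₂⟩ := move_big hA (k := k) (by omega) (Module.finrank_fin_fun K) (T := jmat (1 : K) k)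
      (jmat_upper 1 k) (fun i => by simp [jmat]) (α := 1) (γ := 1) (aeval_jd 1 k) (hco k)
      (cyc_jd (1 : K) (k + 2)) (Module.finrank_fin_fun K)
      (by rw [hdet, prod_diag_jmat, det_jd]; ring)
    set S := (jd (1 : K) (k + 2)).prodMap (qd (1 : K) 1) with hS
    obtain ⟨e, he⟩ := hB₂.symm
    have hcB₂ := ((cyc_jd (1 : K) k).prod (cyc_qd (1 : K) 1) (hco k)).map e he
    obtain ⟨L, hL⟩ := exists_glue (cyc_quad (1 : K) 0 1) hcB₂ (by
      rw [hcB₂.deg, Module.finrank_fin_fun]; omega)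
    rw [← mul_assoc, qpoly_zero_one, ← pow_add, Nat.add_comm 2 k] at hL
    have hBS : EEquiv (tri (Matrix.toLin' (quad (1 : K) 0 1)) L B₂) S :=
      hL.eequiv ((cyc_jd (1 : K) (k + 2)).prod (cyc_qd (1 : K) 1) (hco (k + 2)))
    have hJB : J * Matrix.toLin' (quad (1 : K) 0 1) = Matrix.toLin' (quad (1 : K) 1 1) := by
      show Matrix.toLin' (quad (0 : K) 0 1) * _ = _
      rw [mul_toLin', show quad (0 : K) 0 1 * quad 1 0 1 = quad 1 1 1 by decide +kernel]
    have hmul : J.prodMap A * tri (Matrix.toLin' (quad (1 : K) 0 1)) L B₂ =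
        tri (J * Matrix.toLin' (quad (1 : K) 0 1)) (J.comp L) (A * B₂) := by
      refine LinearMap.ext fun x => ?_
      simp only [Module.End.mul_apply, LinearMap.prodMap_apply, tri_apply, LinearMap.comp_apply, map_add]
    have h2 : aeval (A * B₂) ((X - C (1 : K)) ^ (k + 2)) = 0 := by
      obtain ⟨φ, hφ⟩ := hAB₂
      exact ((cyc_jd (1 : K) (k + 2)).map φ.symm (fun x => φ.injective (by
        rw [φ.apply_symm_apply, hφ, φ.apply_symm_apply]))).aeval_eq_zero
    have hAB : EEquiv (J.prodMap A * tri (Matrix.toLin' (quad (1 : K) 0 1)) L B₂) S := by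
      rw [hmul, hJB]
      refine (tri_split _ _ _ _ (injective_of_coprime (aeval_quad (1 : K) 1 1) (hco (k + 2)).symm) h2).trans ?_
      exact ((cyc_quad (1 : K) 1 1).eequiv (cyc_qd (1 : K) 1)).prodMap hAB₂ |>.trans (EEquiv.prod_comm _ _)
    refine Move.self (S := S) ⟨_, hBS, hAB⟩ ?_
    rw [hS, LinearMap.det_prodMap, det_jd, det_qd, one_pow, one_mul]

theorem good_block {a : ℕ} (ha : 0 < a) {A : Module.End K (Fin a → K)} {f : K[X]} {v : Fin a → K}
    (hA : Cyc A f v) (hd : LinearMap.det A = 1) : Good A := by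
  rcases (show a = 1 ∨ a = 2 ∨ 3 ≤ a by omega) with ha1 | ha2 | ha3
  · have h := eequiv_sc_of_finrank_one ha1 hA
    rw [hd] at h
    exact Or.inr (absorb_equiv h.symm absorb_sc)
  · obtain ⟨α, h⟩ := eequiv_qd_of_finrank_two ha2 hA
    rw [hd] at h
    rcases (show ∀ x : K, x = 0 ∨ x = 1 by decide) α with rfl | rfl
    · exact Or.inl h
    · exact Or.inr (absorb_equiv h.symm absorb_omega)
  · exact Or.inr (absorb_big ha3 hA hd)

theorem combine {A : Module.End K V} {A' : Module.End K W} (hA : Good A) (hA' : Good A') :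
    Absorb (A.prodMap A') := by
  rcases hA with hJ | hA <;> rcases hA' with hJ' | hA'
  · exact absorb_equiv (hJ.prodMap hJ').symm ⟨self_JJ, self_JJJ⟩
  · exact absorb_equiv (hJ.prodMap (EEquiv.refl A')).symm
      ⟨hA'.2, (EEquiv.prod_assoc J J A').self (self_mul self_JJ hA'.1)⟩
  · refine absorb_equiv ((EEquiv.prod_comm J A).trans ((EEquiv.refl A).prodMap hJ'.symm)) ?_
    exact ⟨hA.2, (EEquiv.prod_assoc J J A).self (self_mul self_JJ hA.1)⟩
  · exact ⟨self_mul hA.1 hA'.1, (EEquiv.prod_assoc J A A').self (self_mul hA.2 hA'.1)⟩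

theorem main : ∀ (n : ℕ), 0 < n → ∀ T : Module.End K (Fin n → K), LinearMap.det T = 1 → Good T := by
  intro n
  induction n using Nat.strong_induction_on with
  | _ n ih =>
    intro hn T hT
    obtain ⟨a, b, C, R, v, ha, hab, he, hv⟩ := exists_cyclic_summand hn T
    have hdet : LinearMap.det T = LinearMap.det C * LinearMap.det R := by rw [he.det, LinearMap.det_prodMap]
    rw [hT] at hdet
    have hC : LinearMap.det C = 1 := eq_one_of_ne_zero _ (left_ne_zero_of_mul (hdet ▸ one_ne_zero))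
    have hR : LinearMap.det R = 1 := eq_one_of_ne_zero _ (right_ne_zero_of_mul (hdet ▸ one_ne_zero))
    rcases Nat.eq_zero_or_pos b with hb | hb
    · haveI : Subsingleton (Fin b → K) := by subst hb; infer_instance
      haveI : Unique (Fin b → K) := uniqueOfSubsingleton 0
      exact good_equiv (EEquiv.symm (he.trans ⟨LinearEquiv.prodUnique, fun x => rfl⟩)) (good_block ha hv hC)
    · exact Or.inr (absorb_equiv he.symm (combine (good_block ha hv hC) (ih b (by omega) hb R hR)))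

/-- The result for the field with two elements. -/
theorem commE {n : ℕ} (hn : 3 ≤ n) {T : Module.End K (Fin n → K)} (hT : LinearMap.det T = 1) : CommE T := by
  rcases main n (by omega) T hT with ⟨e, -⟩ | h
  · have := e.finrank_eq
    rw [Module.finrank_fin_fun, Module.finrank_fin_fun] at this
    omega
  · exact (opt_of_self h.1).commE

end Cfsg.Agent.Lib.Sourour.Small.Two
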